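import Groth.Agent.Depth.CM
import Groth.Agent.CAlgReflexive.Basic
import Groth.Agent.LocDuality.ReflexiveLocal

/-!
# Depth of kernels and reflexive modules
-/

set_option autoImplicit false
set_option linter.unusedSectionVars false
set_option linter.style.haveILetI false

universe u

open LocCoh IsLocalRing Module

namespace Groth.Agent.QGorLib

variable {A : Type u} [CommRing A] [IsNoetherianRing A]
variable {M : Type u} [AddCommGroup M] [Module A M] [Module.Finite A M]

theorem isNoetherianRing_atPrime (p : Ideal A) [p.IsPrime] : IsNoetherianRing (Localization.AtPrime p) :=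
  IsLocalization.isNoetherianRing p.primeCompl _ inferInstance

theorem depth_localized_of_notMem_support {p : PrimeSpectrum A} (hp : p ∉ Module.support A M) :
    depth (Localization.AtPrime p.asIdeal) (LocalizedModule p.asIdeal.primeCompl M) = ⊤ := by
  haveI := Module.notMem_support_iff.1 hp
  exact Depth.idealDepth_of_subsingleton

theorem le_idealDepth_of_hasSk {k : ℕ} {I : Ideal A} (hS : HasSk k A M)
    (hcodim : ∀ p : PrimeSpectrum A, I ≤ p.asIdeal → p ∈ Module.support A M →
      (k : WithBot ℕ∞) ≤ Module.supportDim (Localization.AtPrime p.asIdeal) (LocalizedModule p.asIdeal.primeCompl M)) :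
    (k : ℕ∞) ≤ idealDepth I M := by
  rw [Depth.idealDepth_eq_iInf, le_iInf₂_iff]
  intro p hp
  by_cases hs : p ∈ Module.support A M
  · have h := hS p.asIdeal
    rw [min_eq_left (hcodim p hp hs)] at h
    exact WithBot.coe_le_coe.1 h
  · rw [depth_localized_of_notMem_support hs]
    exact le_top

theorem idealDepth_le_supportDim {I : Ideal A} (p : PrimeSpectrum A) (hIp : I ≤ p.asIdeal)
    (hp : p ∈ Module.support A M) :
    ((idealDepth I M : ℕ∞) : WithBot ℕ∞) ≤
      Module.supportDim (Localization.AtPrime p.asIdeal) (LocalizedModule p.asIdeal.primeCompl M) := by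
  haveI := isNoetherianRing_atPrime p.asIdeal
  haveI := Module.mem_support_iff.1 hp
  refine le_trans (WithBot.coe_le_coe.2 ?_) Depth.depth_le_supportDim
  rw [Depth.idealDepth_eq_iInf]
  exact iInf₂_le p hIp

section Ker

variable {E0 E1 : Type u} [AddCommGroup E0] [Module A E0] [Module.Finite A E0] [AddCommGroup E1] [Module A E1]
  [Module.Finite A E1]

theorem one_le_idealDepth_of_injective {I : Ideal A} (f : M →ₗ[A] E0) (hf : Function.Injective f)
    (h : 1 ≤ idealDepth I E0) : 1 ≤ idealDepth I M := by
  refine le_trans (le_of_eq Nat.cast_one.symm) (Depth.le_idealDepth_left (n := 1) hf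
    (LinearMap.range f).mkQ_surjective (LinearMap.exact_map_mkQ_range f) ?_ ?_)
  · simpa using h
  · simp

theorem two_le_idealDepth_of_exact {I : Ideal A} (f : M →ₗ[A] E0) (u : E0 →ₗ[A] E1) (hf : Function.Injective f)
    (hfu : Function.Exact f u) (h0 : 2 ≤ idealDepth I E0) (h1 : 1 ≤ idealDepth I E1) : 2 ≤ idealDepth I M := by
  haveI : Module.Finite A (LinearMap.range u) := Module.Finite.iff_fg.2 (IsNoetherian.noetherian _)
  have hr : 1 ≤ idealDepth I (LinearMap.range u) :=
    one_le_idealDepth_of_injective (LinearMap.range u).subtype (LinearMap.range u).injective_subtype h1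
  refine Depth.le_idealDepth_left (n := 2) hf u.surjective_rangeRestrict ?_ h0 ?_
  · intro y
    rw [← hfu y, ← Subtype.coe_inj]
    rfl
  · calc ((2 : ℕ) : ℕ∞) = 1 + 1 := by norm_num
      _ ≤ _ := add_le_add hr le_rfl

theorem supportDim_le_of_subset {R : Type u} [CommRing R] {P Q : Type u} [AddCommGroup P] [Module R P]
    [AddCommGroup Q] [Module R Q] (h : Module.support R P ⊆ Module.support R Q) :
    Module.supportDim R P ≤ Module.supportDim R Q :=
  Order.krullDim_le_of_strictMono (Set.inclusion h) fun _ _ hab => hab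

theorem hasSk_one_of_injective (f : M →ₗ[A] E0) (hf : Function.Injective f) (h : HasSk 1 A E0) :
    HasSk 1 A M := by
  intro p _
  haveI := isNoetherianRing_atPrime p
  have hfp : Function.Injective (LocalizedModule.map p.primeCompl f) := LocalizedModule.map_injective _ f hf
  have h' := h p
  rcases subsingleton_or_nontrivial (LocalizedModule p.primeCompl M) with hs | hn
  · rw [Module.supportDim_eq_bot_of_subsingleton]; simp
  rcases min_le_iff.1 h' with h1 | h1
  · exact (min_le_left _ _).trans (WithBot.coe_le_coe.2 <| le_of_eq_of_le Nat.cast_one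
      (one_le_idealDepth_of_injective _ hfp (le_of_eq_of_le Nat.cast_one.symm (WithBot.coe_le_coe.1 h1))))
  · by_cases h0 : depth (Localization.AtPrime p) (LocalizedModule p.primeCompl E0) = 0
    · refine (min_le_right _ _).trans ?_
      refine (supportDim_le_of_subset (Module.support_subset_of_injective _ hfp)).trans (h1.trans ?_)
      rw [h0]
      exact WithBot.coe_le_coe.2 bot_le
    · refine (min_le_left _ _).trans (WithBot.coe_le_coe.2 ?_)
      exact le_of_eq_of_le Nat.cast_one (one_le_idealDepth_of_injective _ hfp (Order.one_le_iff_ne_zero.2 h0))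

theorem hasSk_two_of_exact (f : M →ₗ[A] E0) (u : E0 →ₗ[A] E1) (hf : Function.Injective f)
    (hfu : Function.Exact f u) (hsupp : Module.support A M ⊆ Module.support A E1)
    (h1 : HasSk 1 A E1) (h0 : HasSk 2 A E0) : HasSk 2 A M := by
  intro p hp
  haveI := isNoetherianRing_atPrime p
  let fp := LocalizedModule.map p.primeCompl f
  have hfp : Function.Injective fp := LocalizedModule.map_injective _ f hf
  have hex : Function.Exact fp (LocalizedModule.map p.primeCompl u) := LocalizedModule.map_exact _ f u hfu
  rcases subsingleton_or_nontrivial (LocalizedModule p.primeCompl M) with hs | hn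
  · rw [Module.supportDim_eq_bot_of_subsingleton]; simp
  haveI : Nontrivial (LocalizedModule p.primeCompl E1) :=
    Module.mem_support_iff.1 (hsupp (Module.mem_support_iff.2 hn : (⟨p, hp⟩ : PrimeSpectrum A) ∈ _))
  obtain ⟨d, hd⟩ := Depth.exists_natCast_eq_supportDim (R := Localization.AtPrime p)
    (M := LocalizedModule p.primeCompl M)
  obtain ⟨d0, hd0⟩ : ∃ d0 : ℕ, Module.supportDim (Localization.AtPrime p) (LocalizedModule p.primeCompl E0) = d0 := by
    haveI : Nontrivial (LocalizedModule p.primeCompl E0) := hfp.nontrivial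
    exact Depth.exists_natCast_eq_supportDim
  obtain ⟨d1, hd1⟩ : ∃ d1 : ℕ, Module.supportDim (Localization.AtPrime p) (LocalizedModule p.primeCompl E1) = d1 :=
    Depth.exists_natCast_eq_supportDim
  have le0 : d ≤ d0 := by
    have := supportDim_le_of_subset (Module.support_subset_of_injective _ hfp)
    rw [hd, hd0] at this
    exact_mod_cast this
  have le1 : d ≤ d1 := by
    have hsub : Module.support (Localization.AtPrime p) (LocalizedModule p.primeCompl M) ⊆
        Module.support (Localization.AtPrime p) (LocalizedModule p.primeCompl E1) := fun P hP => by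
      have h' := hsupp (CAlgSerre.comap_mem_support P hP)
      exact CAlgSerre.mem_support_localized h' (by
        show P.asIdeal.comap (algebraMap A _) ≤ p
        conv_rhs => rw [← CAlgSerre.comap_max p]
        exact Ideal.comap_mono (le_maximalIdeal P.2.ne_top)) P rfl
    have := supportDim_le_of_subset hsub
    rw [hd, hd1] at this
    exact_mod_cast this
  have e0 := h0 p
  have e1 := h1 p
  rw [hd0] at e0
  rw [hd1] at e1
  rw [hd]
  show ((min ((2 : ℕ) : ℕ∞) (d : ℕ∞) : ℕ∞) : WithBot ℕ∞) ≤ _
  have a0 : min ((2 : ℕ) : ℕ∞) (d0 : ℕ∞) ≤ depth (Localization.AtPrime p) (LocalizedModule p.primeCompl E0) :=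
    WithBot.coe_le_coe.1 e0
  have a1 : min ((1 : ℕ) : ℕ∞) (d1 : ℕ∞) ≤ depth (Localization.AtPrime p) (LocalizedModule p.primeCompl E1) :=
    WithBot.coe_le_coe.1 e1
  refine WithBot.coe_le_coe.2 ?_
  rcases Nat.lt_or_ge d 1 with hd' | hd'
  · obtain rfl : d = 0 := by omega
    simp
  rcases Nat.lt_or_ge d 2 with hd'' | hd''
  · obtain rfl : d = 1 := by omega
    refine le_trans (min_le_right _ _) ?_
    rw [Nat.cast_one]
    refine one_le_idealDepth_of_injective fp hfp ?_
    refine le_trans ?_ a0
    exact le_min (by norm_num) (by exact_mod_cast le0)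
  · refine le_trans (min_le_left _ _) ?_
    refine two_le_idealDepth_of_exact fp _ hfp hex ?_ ?_
    · refine le_trans ?_ a0
      exact le_min le_rfl (by exact_mod_cast hd''.trans le0)
    · refine le_trans ?_ a1
      exact le_min (by norm_num) (by exact_mod_cast (le_trans (by norm_num) (hd''.trans le1)))

end Ker

section Reflexive

variable (M) [Module.IsReflexive A M]

theorem hasSk_of_isReflexive {k : ℕ} (hk : k ≤ 2) (h : HasSk k A A) : HasSk k A M := by
  haveI : Module.Finite A (Module.Dual A M) := inferInstance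
  exact CAlgReflexive.hasSk_congr (Module.evalEquiv A M).symm (CAlgReflexive.hasSk_hom (M := Module.Dual A M) hk h)

theorem le_idealDepth_of_isReflexive {k : ℕ} (hk : k ≤ 2) {I : Ideal A} (h : (k : ℕ∞) ≤ idealDepth I A) :
    (k : ℕ∞) ≤ idealDepth I M := by
  haveI : Module.Finite A (Module.Dual A M) := inferInstance
  rw [Depth.idealDepth_congr (Module.evalEquiv A M), Depth.idealDepth_eq_iInf, le_iInf₂_iff]
  intro p hp
  haveI := isNoetherianRing_atPrime p.asIdeal
  haveI := Module.finitePresentation_of_finite A (Module.Dual A M)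
  obtain ⟨e⟩ := CAlgReflexive.exists_localized_hom_equiv (M := Module.Dual A M) (N := A) p.asIdeal.primeCompl
  rw [Depth.depth_congr e]
  refine CAlgReflexive.le_depth_hom hk ?_
  rw [Depth.idealDepth_eq_iInf, le_iInf₂_iff] at h
  exact h p hp

end Reflexive

section Criterion

theorem exists_eval_of_isReflexive_localized (p : Ideal A) [p.IsPrime]
    [Module.IsReflexive (Localization.AtPrime p) (LocalizedModule p.primeCompl M)]
    (Φ : (M →ₗ[A] A) →ₗ[A] A) : ∃ s ∉ p, ∃ x : M, ∀ φ : M →ₗ[A] A, s * Φ φ = φ x := by
  let L := Localization.AtPrime p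
  let MP := LocalizedModule p.primeCompl M
  let ΦP : (MP →ₗ[L] L) →ₗ[L] L :=
    (IsLocalizedModule.lift p.primeCompl (LocDuality.dualLoc p M) (Algebra.linearMap A L ∘ₗ Φ)
      (IsLocalizedModule.map_units (Algebra.linearMap A L))).extendScalarsOfIsLocalization p.primeCompl L
  have hΦP : ∀ φ, ΦP (LocDuality.dualLoc p M φ) = algebraMap A L (Φ φ) := fun φ =>
    IsLocalizedModule.lift_apply p.primeCompl (LocDuality.dualLoc p M) _
      (IsLocalizedModule.map_units (Algebra.linearMap A L)) φ
  obtain ⟨z, hz'⟩ := (Module.bijective_dual_eval L MP).2 ΦP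
  have hz : ∀ g : MP →ₗ[L] L, ΦP g = g z := fun g => (LinearMap.congr_fun hz' g).symm
  obtain ⟨⟨x, s⟩, hx⟩ := IsLocalizedModule.surj p.primeCompl (LocalizedModule.mkLinearMap p.primeCompl M) z
  have heq : Algebra.linearMap A L ∘ₗ ((s : A) • Φ) = Algebra.linearMap A L ∘ₗ LinearMap.applyₗ x := LinearMap.ext fun φ => by
    have h1 : LocDuality.dualLoc p M φ ((s : A) • z) = algebraMap A L (φ x) := by
      rw [← LocDuality.dualLoc_apply p M φ x, ← hx]; rfl
    change algebraMap A L ((s : A) * Φ φ) = algebraMap A L (φ x)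
    rw [← h1, LinearMap.map_smul_of_tower, ← hz, hΦP, map_mul, Algebra.smul_def]
  obtain ⟨t, ht⟩ := Module.Finite.exists_smul_of_comp_eq_of_isLocalizedModule p.primeCompl (Algebra.linearMap A L) _ _ heq
  refine ⟨t * s, (inferInstance : p.IsPrime).mem_or_mem.mt (not_or.mpr ⟨t.2, s.2⟩), (t : A) • x, fun φ => ?_⟩
  have := LinearMap.congr_fun ht φ
  rw [mul_assoc, map_smul]
  exact this

theorem exists_smul_eq_zero_of_isReflexive_localized (p : Ideal A) [p.IsPrime]
    [Module.IsReflexive (Localization.AtPrime p) (LocalizedModule p.primeCompl M)]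
    {x : M} (hx : ∀ φ : M →ₗ[A] A, φ x = 0) : ∃ s ∉ p, s • x = 0 := by
  let L := Localization.AtPrime p
  have h0 : LocalizedModule.mkLinearMap p.primeCompl M x = 0 := by
    refine (Module.bijective_dual_eval L (LocalizedModule p.primeCompl M)).1 (LinearMap.ext fun g => ?_)
    obtain ⟨⟨φ, s⟩, hφ⟩ := IsLocalizedModule.surj p.primeCompl (LocDuality.dualLoc p M) g
    have h1 : (s : A) • g (LocalizedModule.mkLinearMap p.primeCompl M x) = 0 := by
      refine (LinearMap.congr_fun hφ (LocalizedModule.mkLinearMap p.primeCompl M x)).trans ?_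
      rw [LocDuality.dualLoc_apply, hx, map_zero]
    rw [Algebra.smul_def] at h1
    simpa using (IsLocalization.map_units L s).mul_right_eq_zero.mp h1
  obtain ⟨t, ht⟩ := (IsLocalizedModule.eq_zero_iff p.primeCompl (LocalizedModule.mkLinearMap p.primeCompl M)).mp h0
  exact ⟨t, t.2, ht⟩

theorem subsingleton_of_support_subset {I : Ideal A} (hd : 1 ≤ idealDepth I M)
    (hs : ∀ p ∈ Module.support A M, I ≤ p.asIdeal) : Subsingleton M := by
  by_contra hns
  rw [not_subsingleton_iff_nontrivial] at hns
  obtain ⟨q, hq⟩ := associatedPrimes.nonempty A M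
  haveI := hq.isPrime
  have hsupp : (⟨q, inferInstance⟩ : PrimeSpectrum A) ∈ Module.support A M :=
    Depth.mem_support_of_mem_associatedPrimes hq
  have hI : I • (⊤ : Submodule A M) ≠ ⊤ := fun h => by
    haveI := isNoetherianRing_atPrime q
    haveI := Module.mem_support_iff.1 hsupp
    have := idealDepth_le_supportDim (M := M) ⟨q, inferInstance⟩ (hs _ hsupp) hsupp
    rw [Depth.idealDepth_eq_top h] at this
    obtain ⟨n, hn⟩ := Depth.exists_natCast_eq_supportDim (R := Localization.AtPrime q)
      (M := LocalizedModule q.primeCompl M)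
    rw [hn] at this
    exact absurd (WithBot.coe_le_coe.1 this) (not_le.2 (ENat.natCast_lt_top n))
  have h0 := (Depth.idealDepth_eq_zero_iff hI).2 ⟨q, hq, hs _ hsupp⟩
  rw [h0] at hd
  exact absurd hd (by simp)

theorem isReflexive_of_idealDepth_two {I : Ideal A} (hA : 1 ≤ idealDepth I A)
    (hU : ∀ p : PrimeSpectrum A, ¬ I ≤ p.asIdeal →
      Module.IsReflexive (Localization.AtPrime p.asIdeal) (LocalizedModule p.asIdeal.primeCompl M))
    (hG : 2 ≤ idealDepth I M) : Module.IsReflexive A M := by
  let ev := Module.Dual.eval A M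
  have hinj : Function.Injective ev := by
    rw [← LinearMap.ker_eq_bot, Submodule.eq_bot_iff]
    haveI : Module.Finite A (LinearMap.ker ev) := Module.Finite.iff_fg.2 (IsNoetherian.noetherian _)
    haveI : Subsingleton (LinearMap.ker ev) := by
      refine subsingleton_of_support_subset (I := I) (one_le_idealDepth_of_injective (LinearMap.ker ev).subtype
        (LinearMap.ker ev).injective_subtype (le_trans (by norm_num) hG)) fun p hp => ?_
      by_contra hIp
      haveI := hU p hIp
      refine Module.mem_support_iff'.1 hp |>.elim fun y hy => ?_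
      obtain ⟨s, hs, hsy⟩ := exists_smul_eq_zero_of_isReflexive_localized p.asIdeal (x := (y : M))
        fun φ => LinearMap.congr_fun (LinearMap.mem_ker.1 y.2) φ
      exact hy s hs (Subtype.ext hsy)
    exact fun x hx => congrArg Subtype.val (Subsingleton.elim (⟨x, hx⟩ : LinearMap.ker ev) 0)
  refine ⟨hinj, ?_⟩
  haveI : Module.Finite A (Module.Dual A (Module.Dual A M)) := inferInstance
  rw [← LinearMap.range_eq_top, ← Submodule.Quotient.subsingleton_iff]
  refine subsingleton_of_support_subset (I := I) ?_ fun p hp => ?_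
  · refine le_trans (le_of_eq Nat.cast_one.symm) (Depth.le_idealDepth_right (n := 1) hinj
      (LinearMap.range ev).mkQ_surjective (LinearMap.exact_map_mkQ_range ev) hG ?_)
    rw [Nat.cast_one, Depth.idealDepth_eq_iInf, le_iInf₂_iff]
    intro p hp
    haveI := isNoetherianRing_atPrime p.asIdeal
    haveI := Module.finitePresentation_of_finite A (Module.Dual A M)
    obtain ⟨e⟩ := CAlgReflexive.exists_localized_hom_equiv (M := Module.Dual A M) (N := A) p.asIdeal.primeCompl
    rw [Depth.depth_congr e, ← Nat.cast_one]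
    refine CAlgReflexive.le_depth_hom (by norm_num) ?_
    rw [Depth.idealDepth_eq_iInf, le_iInf₂_iff] at hA
    simpa using hA p hp
  · by_contra hIp
    haveI := hU p hIp
    obtain ⟨y, hy⟩ := Module.mem_support_iff'.1 hp
    obtain ⟨Φ, rfl⟩ := Submodule.Quotient.mk_surjective _ y
    obtain ⟨s, hs, x, hx⟩ := exists_eval_of_isReflexive_localized p.asIdeal Φ
    refine hy s hs ?_
    rw [← Submodule.Quotient.mk_smul, Submodule.Quotient.mk_eq_zero]
    exact ⟨x, LinearMap.ext fun φ => (hx φ).symm⟩

theorem two_le_supportDim_self {I : Ideal A} (hI : 2 ≤ I.height) (p : PrimeSpectrum A) (hp : I ≤ p.asIdeal) :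
    ((2 : ℕ) : WithBot ℕ∞) ≤ Module.supportDim (Localization.AtPrime p.asIdeal) (LocalizedModule p.asIdeal.primeCompl A) := by
  rw [Depth.supportDim_localizedSelf]
  exact WithBot.coe_le_coe.2 (hI.trans (Ideal.height_mono hp))

end Criterion

end Groth.Agent.QGorLib
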