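import Groth.Agent.QGorLib.FibreDepth
import Groth.Agent.FlatCrit.Local
import Groth.Agent.Rodicio.Basic

/-!
# Four-term exact sequences and flatness of the cokernel
-/

set_option autoImplicit false
set_option linter.style.haveILetI false

universe u

open TensorProduct LocCoh

namespace Groth.Agent.QGorLib

theorem flat_of_linearMap_localized {A B M : Type u} [CommRing A] [CommRing B] [Algebra A B]
    [AddCommGroup M] [Module B M] [Module A M] [IsScalarTower A B M] [Module.Flat A M] (q : Ideal B) [q.IsPrime] :
    Module.Flat A (LocalizedModule q.primeCompl M) := by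
  rw [Module.Flat.iff_lTensor_preserves_injective_linearMap]
  intro K P _ _ _ _ f hf
  let S := q.primeCompl
  let g : M →ₗ[B] LocalizedModule S M := LocalizedModule.mkLinearMap S M
  let hK := AlgebraTensorModule.rTensor A K g
  let hP := AlgebraTensorModule.rTensor A P g
  refine (injective_iff_map_eq_zero _).2 fun z hz => ?_
  obtain ⟨⟨w, s⟩, hw⟩ := IsLocalizedModule.surj S hK z
  have hcomm : ∀ x : M ⊗[A] K, f.lTensor (LocalizedModule S M) (hK x) = hP (AlgebraTensorModule.lTensor B M f x) := fun x => by
    induction x with
    | zero => simp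
    | add a b ha hb => rw [map_add, map_add, map_add, map_add, ha, hb]
    | tmul m k => rfl
  have h1 : hP (AlgebraTensorModule.lTensor B M f w) = 0 := by
    rw [← hcomm, ← hw]
    have : f.lTensor (LocalizedModule S M) ((s : B) • z) = (s : B) • f.lTensor (LocalizedModule S M) z :=
      (AlgebraTensorModule.lTensor B (LocalizedModule S M) f).map_smul _ _
    rw [Submonoid.smul_def, this, hz, smul_zero]
  obtain ⟨t, ht⟩ := (IsLocalizedModule.eq_zero_iff S hP).1 h1
  have h2 : (t : B) • w = 0 := Module.Flat.lTensor_preserves_injective_linearMap (M := M) f hf (by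
    show AlgebraTensorModule.lTensor B M f ((t : B) • w) = _
    rw [map_smul, map_zero]; exact ht)
  have h3 : ((t * s : S) : B) • z = 0 := by
    have := congrArg hK h2
    rw [map_smul, map_zero, ← hw] at this
    rw [Submonoid.coe_mul, mul_smul]
    exact this
  exact (IsLocalizedModule.smul_injective hK (t * s)) (a₁ := z) (a₂ := 0)
    (by simpa [Submonoid.smul_def] using h3)

variable {A B : Type u} [CommRing A] [CommRing B] [IsNoetherianRing A] [IsNoetherianRing B] [IsLocalRing A]
  [IsLocalRing B] [Algebra A B] [IsLocalHom (algebraMap A B)] {J : Ideal B}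
  {F E0 E1 G : Type u} [AddCommGroup F] [Module B F] [Module A F] [IsScalarTower A B F] [Module.Finite B F]
  [AddCommGroup E0] [Module B E0] [Module A E0] [IsScalarTower A B E0] [Module.Finite B E0] [Module.Flat A E0]
  [AddCommGroup E1] [Module B E1] [Module A E1] [IsScalarTower A B E1] [Module.Finite B E1] [Module.Flat A E1]
  [AddCommGroup G] [Module B G] [Module A G] [IsScalarTower A B G] [Module.Finite B G]
  {f : F →ₗ[B] E0} {u : E0 →ₗ[B] E1} {v : E1 →ₗ[B] G}

theorem fourTerm_iff (hf : Function.Injective f) (hfu : Function.Exact f u) (huv : Function.Exact u v)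
    (hv : Function.Surjective v)
    (hGU : ∀ q : PrimeSpectrum B, ¬ J ≤ q.asIdeal → FlatCA.FlatAt A q.asIdeal G)
    (h0 : 2 ≤ idealDepth J (EGA4.FibMod A B E0)) (h1 : 1 ≤ idealDepth J (EGA4.FibMod A B E1)) :
    (2 ≤ idealDepth J (EGA4.FibMod A B F) ↔ Module.Flat A G) ∧
    (Module.Flat A G ↔ ∀ n : ℕ, 2 ≤ idealDepth J (F ⧸ ((EGA4.mB A B) ^ (n + 1) • (⊤ : Submodule B F)))) ∧
    (Module.Flat A G → Module.Flat A F) := by
  let k := A ⧸ IsLocalRing.maximalIdeal A
  let I := LinearMap.range u
  haveI : Module.Finite B I := Module.Finite.iff_fg.2 (IsNoetherian.noetherian _)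
  let u0 : E0 →ₗ[B] I := u.rangeRestrict
  have hu0 : Function.Surjective u0 := u.surjective_rangeRestrict
  have hfu0 : Function.Exact f u0 := fun y => by rw [← hfu y, ← Subtype.coe_inj]; rfl
  have hIv : Function.Exact I.subtype v := fun y => by
    rw [huv y, Submodule.coe_subtype, Subtype.range_coe_subtype]; rfl
  haveI := FlatCrit.finite_tensor (R := A) (S := B) (M := F) k
  haveI := FlatCrit.finite_tensor (R := A) (S := B) (M := E0) k
  haveI := FlatCrit.finite_tensor (R := A) (S := B) (M := E1) k
  haveI := FlatCrit.finite_tensor (R := A) (S := B) (M := I) k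
  obtain ⟨eF⟩ := exists_fibMod_equiv (A := A) (B := B) (M := F)
  obtain ⟨eE0⟩ := exists_fibMod_equiv (A := A) (B := B) (M := E0)
  obtain ⟨eE1⟩ := exists_fibMod_equiv (A := A) (B := B) (M := E1)
  obtain ⟨eI⟩ := exists_fibMod_equiv (A := A) (B := B) (M := I)
  rw [← Depth.idealDepth_congr eE0] at h0
  rw [← Depth.idealDepth_congr eE1] at h1
  let fk := AlgebraTensorModule.lTensor A k (f.restrictScalars A)
  -- off `J`
  have hIU : ∀ q : PrimeSpectrum B, ¬ J ≤ q.asIdeal → FlatCA.FlatAt A q.asIdeal I := fun q hq => by
    haveI : Module.Flat A (LocalizedModule q.asIdeal.primeCompl G) := hGU q hq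
    haveI := flat_of_linearMap_localized (A := A) (M := E1) q.asIdeal
    exact Rodicio.flat_of_exact
      (i := (LocalizedModule.map q.asIdeal.primeCompl I.subtype).restrictScalars A)
      (π := (LocalizedModule.map q.asIdeal.primeCompl v).restrictScalars A)
      (LocalizedModule.map_injective _ _ I.injective_subtype) (LocalizedModule.map_exact _ _ _ hIv)
      (LocalizedModule.map_surjective _ _ hv)
  have hFU : ∀ q : PrimeSpectrum B, ¬ J ≤ q.asIdeal → FlatCA.FlatAt A q.asIdeal F := fun q hq => by
    haveI : Module.Flat A (LocalizedModule q.asIdeal.primeCompl I) := hIU q hq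
    haveI := flat_of_linearMap_localized (A := A) (M := E0) q.asIdeal
    exact Rodicio.flat_of_exact
      (i := (LocalizedModule.map q.asIdeal.primeCompl f).restrictScalars A)
      (π := (LocalizedModule.map q.asIdeal.primeCompl u0).restrictScalars A)
      (LocalizedModule.map_injective _ _ hf) (LocalizedModule.map_exact _ _ _ hfu0)
      (LocalizedModule.map_surjective _ _ hu0)
  -- reduction modulo the maximal ideal
  let rf : F ⊗[A] k →ₗ[B] E0 ⊗[A] k := AlgebraTensorModule.rTensor A k f
  let ru : E0 ⊗[A] k →ₗ[B] I ⊗[A] k := AlgebraTensorModule.rTensor A k u0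
  let ri : I ⊗[A] k →ₗ[B] E1 ⊗[A] k := AlgebraTensorModule.rTensor A k I.subtype
  have hru : Function.Surjective ru := LinearMap.rTensor_surjective k (g := u0.restrictScalars A) hu0
  have hrex : Function.Exact rf ru :=
    _root_.rTensor_exact k (f := f.restrictScalars A) (g := u0.restrictScalars A) hfu0 hu0
  have key : 2 ≤ idealDepth J (EGA4.FibMod A B F) → Module.Flat A F ∧ Module.Flat A G := by
    intro hF
    haveI hFflat : Module.Flat A F := flat_of_one_le_idealDepth_fibMod hFU (le_trans (by norm_num) hF)
    rw [← Depth.idealDepth_congr eF] at hF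
    -- `F ⊗ k → E0 ⊗ k` is injective
    have hker : ∀ {N P : Type u} [AddCommGroup N] [Module B N] [Module A N] [IsScalarTower A B N] [Module.Finite B N]
        [AddCommGroup P] [Module B P] [Module A P] [IsScalarTower A B P] [Module.Finite B P] (g : N →ₗ[B] P)
        {C : Type u} [AddCommGroup C] [Module B C] [Module A C] [IsScalarTower A B C] (π : P →ₗ[B] C),
        Function.Injective g → Function.Exact g π → Function.Surjective π →
        (∀ q : PrimeSpectrum B, ¬ J ≤ q.asIdeal → FlatCA.FlatAt A q.asIdeal C) →
        1 ≤ idealDepth J (N ⊗[A] k) → Function.Injective (AlgebraTensorModule.rTensor A k g) := by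
      intro N P _ _ _ _ _ _ _ _ _ _ g C _ _ _ _ π hg hgπ hπ hC hd
      haveI := FlatCrit.finite_tensor (R := A) (S := B) (M := N) k
      let rg := AlgebraTensorModule.rTensor A k g
      haveI : Module.Finite B (LinearMap.ker rg) := Module.Finite.iff_fg.2 (IsNoetherian.noetherian _)
      haveI : Subsingleton (LinearMap.ker rg) := by
        refine subsingleton_of_support_subset (I := J)
          (one_le_idealDepth_of_injective (LinearMap.ker _).subtype (LinearMap.ker _).injective_subtype hd)
          fun p hp => ?_
        by_contra hJ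
        obtain ⟨z, hz⟩ := Module.mem_support_iff'.1 hp
        let S := p.asIdeal.primeCompl
        let gN := LocalizedModule.mkLinearMap S N
        let gP := LocalizedModule.mkLinearMap S P
        haveI : Module.Flat A (LocalizedModule S C) := hC p hJ
        have hinj := LinearMap.lTensor_injective_of_exact_of_flat
          ((LocalizedModule.map S π).restrictScalars A) (LocalizedModule.map_surjective _ _ hπ)
          ((LocalizedModule.map S g).restrictScalars A) (LocalizedModule.map_injective _ _ hg)
          (LocalizedModule.map_exact _ _ _ hgπ) k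
        rw [LinearMap.lTensor_inj_iff_rTensor_inj] at hinj
        have hcomm : ∀ x : N ⊗[A] k, ((LocalizedModule.map S g).restrictScalars A).rTensor k
            (AlgebraTensorModule.rTensor A k gN x) = AlgebraTensorModule.rTensor A k gP (rg x) := fun x => by
          induction x with
          | zero => simp
          | add a b ha hb => rw [map_add, map_add, map_add, map_add, ha, hb]
          | tmul n c => simp [rg, gN, gP, LocalizedModule.map_mk]
        have hz0 : AlgebraTensorModule.rTensor A k gN (z : N ⊗[A] k) = 0 :=
          hinj (by rw [hcomm, LinearMap.mem_ker.1 z.2, map_zero, map_zero])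
        obtain ⟨s, hs⟩ := (IsLocalizedModule.eq_zero_iff S (AlgebraTensorModule.rTensor A k gN)).1 hz0
        exact hz s s.2 (Subtype.ext hs)
      rw [← LinearMap.ker_eq_bot, Submodule.eq_bot_iff]
      exact fun y hy => congrArg Subtype.val (Subsingleton.elim (⟨y, hy⟩ : LinearMap.ker rg) 0)
    have hrf : Function.Injective rf := hker f u0 hf hfu0 hu0 hIU (le_trans (by norm_num) hF)
    have hI1 : 1 ≤ idealDepth J (I ⊗[A] k) := le_of_eq_of_le Nat.cast_one.symm
      (Depth.le_idealDepth_right (n := 1) hrf hru hrex hF (le_trans (by norm_num) h0))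
    have hri : Function.Injective ri := hker I.subtype v I.injective_subtype hIv hv hGU hI1
    haveI : Module.Flat A E1 := inferInstance
    have hS : (IsLocalRing.maximalIdeal A).map (algebraMap A B) ≤ Ideal.jacobson ⊥ :=
      (((IsLocalRing.local_hom_TFAE (algebraMap A B)).out 0 2 rfl rfl).1 inferInstance).trans
        (IsLocalRing.maximalIdeal_le_jacobson _)
    have hflat := (FlatCrit.injective_and_flat_coker (S := B) hS (I.subtype.restrictScalars A)
      ((LinearMap.lTensor_inj_iff_rTensor_inj _ _).2 hri)).2
    refine ⟨hFflat, ?_⟩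
    have hker' : LinearMap.ker (v.restrictScalars A) = LinearMap.range (I.subtype.restrictScalars A) :=
      (LinearMap.exact_iff (f := I.subtype.restrictScalars A) (g := v.restrictScalars A)).1 hIv
    exact Module.Flat.of_linearEquiv ((Submodule.quotEquivOfEq _ _ hker'.symm).trans
      ((v.restrictScalars A).quotKerEquivOfSurjective hv)).symm
  have conv : Module.Flat A G → Module.Flat A F ∧ 2 ≤ idealDepth J (EGA4.FibMod A B F) := by
    intro hG
    haveI : Module.Flat A I := Rodicio.flat_of_exact (i := I.subtype.restrictScalars A) (π := v.restrictScalars A)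
      I.injective_subtype hIv hv
    haveI : Module.Flat A F := Rodicio.flat_of_exact (i := f.restrictScalars A) (π := u0.restrictScalars A)
      hf hfu0 hu0
    refine ⟨inferInstance, ?_⟩
    have hrf : Function.Injective rf := by
      have := LinearMap.lTensor_injective_of_exact_of_flat (u0.restrictScalars A) hu0
        (f.restrictScalars A) hf hfu0 k
      rw [LinearMap.lTensor_inj_iff_rTensor_inj] at this
      exact this
    have hri : Function.Injective ri := by
      have := LinearMap.lTensor_injective_of_exact_of_flat (v.restrictScalars A) hv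
        (I.subtype.restrictScalars A) I.injective_subtype hIv k
      rw [LinearMap.lTensor_inj_iff_rTensor_inj] at this
      exact this
    rw [← Depth.idealDepth_congr eF]
    refine two_le_idealDepth_of_exact rf (ri.comp ru) hrf ?_ h0 h1
    intro y
    rw [LinearMap.comp_apply, map_eq_zero_iff ri hri]
    exact hrex y
  refine ⟨⟨fun h => (key h).2, fun h => (conv h).2⟩, ⟨fun h n => ?_, fun h => ?_⟩, fun h => (conv h).1⟩
  · obtain ⟨hF, hd⟩ := conv h
    exact two_le_idealDepth_quot_pow (fun q _ => flat_of_linearMap_localized q.asIdeal) hd (n + 1)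
  · refine (key ?_).2
    have h' := h 0
    rwa [Depth.idealDepth_congr (Submodule.quotEquivOfEq _ (EGA4.mB A B • (⊤ : Submodule B F))
      (by rw [zero_add, pow_one]))] at h'

end Groth.Agent.QGorLib
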