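import Groth.Agent.QGorLib.FourTermFlat
import Groth.Agent.FlatLocalDepth.Basic
import Mathlib.RingTheory.Flat.Localization

/-!
# Depth at a point from the depth of the fibre
-/

set_option autoImplicit false
set_option linter.style.haveILetI false
set_option linter.unusedSectionVars false

universe u

open TensorProduct LocCoh IsLocalRing

namespace Groth.Agent.QGorLib

variable {A B : Type u} [CommRing A] [CommRing B] [IsNoetherianRing A] [IsNoetherianRing B] [Algebra A B]
  {E : Type u} [AddCommGroup E] [Module B E] [Module A E] [IsScalarTower A B E] [Module.Finite B E]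
  [Module.Flat A E]

theorem depth_fibLoc_le (q : Ideal B) [q.IsPrime] :
    idealDepth (q.map (algebraMap B (EGA4.FibLocRing A B q))) (EGA4.FibLocMod A B q E) ≤
      depth (Localization.AtPrime q) (LocalizedModule q.primeCompl E) := by
  let p := q.comap (algebraMap A B)
  let R := Localization.AtPrime p
  let S := Localization.AtPrime q
  let N := LocalizedModule q.primeCompl E
  haveI : IsNoetherianRing R := isNoetherianRing_atPrime p
  haveI : IsNoetherianRing S := isNoetherianRing_atPrime q
  letI : Algebra R S := (Localization.localRingHom p q (algebraMap A B) rfl).toAlgebra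
  haveI : IsScalarTower A R S := IsScalarTower.of_algebraMap_eq fun a => by
    rw [IsScalarTower.algebraMap_apply A B S, RingHom.algebraMap_toAlgebra]
    exact (Localization.localRingHom_to_map p q _ rfl a).symm
  haveI : IsLocalHom (algebraMap R S) :=
    inferInstanceAs (IsLocalHom (Localization.localRingHom p q (algebraMap A B) rfl))
  letI : Module R N := Module.compHom N (algebraMap R S)
  haveI : IsScalarTower R S N := ⟨fun r s n => by
    show (r • s) • n = algebraMap R S r • s • n
    rw [Algebra.smul_def, mul_smul]⟩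
  haveI : IsScalarTower A R N := ⟨fun a r n => by
    show algebraMap R S (a • r) • n = a • (algebraMap R S r • n)
    rw [Algebra.smul_def, map_mul, ← IsScalarTower.algebraMap_apply, mul_smul]
    exact IsScalarTower.algebraMap_smul S a _⟩
  haveI : Module.Flat R N :=
    (Module.flat_iff_of_isLocalization R p.primeCompl N).2 (flat_of_linearMap_localized q)
  obtain ⟨e⟩ := exists_fibMod_equiv (A := R) (B := S) (M := N)
  have hmB : EGA4.mB R S = (q.comap (algebraMap A B)).map (algebraMap A S) := by
    rw [EGA4.mB, ← Localization.AtPrime.map_eq_maximalIdeal, Ideal.map_map, ← IsScalarTower.algebraMap_eq]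
  let e' : EGA4.FibMod R S N ≃ₗ[S] EGA4.FibLocMod A B q E :=
    Submodule.quotEquivOfEq _ _ (by rw [hmB])
  haveI : Module.Finite S N := inferInstance
  haveI : Module.Finite S (EGA4.FibLocMod A B q E) := inferInstance
  have hq : q.map (algebraMap B (EGA4.FibLocRing A B q)) =
      (maximalIdeal S).map (algebraMap S (EGA4.FibLocRing A B q)) := by
    rw [← Localization.AtPrime.map_eq_maximalIdeal, Ideal.map_map, ← IsScalarTower.algebraMap_eq]
  rw [hq, Depth.idealDepth_map_eq, ← Depth.idealDepth_congr e', ← Depth.idealDepth_congr e,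
    ← ENat.forall_natCast_le_iff_le]
  intro n hn
  rcases subsingleton_or_nontrivial N with hs | hs
  · rw [depth, Depth.idealDepth_of_subsingleton]; exact le_top
  haveI : Module.Finite S (N ⊗[R] ResidueField R) := FlatLocalDepth.finite_fibre R N
  have hjac : (maximalIdeal R).map (algebraMap R S) ≤ Ideal.jacobson ⊥ :=
    (((IsLocalRing.local_hom_TFAE (algebraMap R S)).out 0 2 rfl rfl).1 inferInstance).trans (IsLocalRing.maximalIdeal_le_jacobson _)
  have hne : maximalIdeal S • (⊤ : Submodule S (N ⊗[R] (R ⧸ maximalIdeal R))) ≠ ⊤ := by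
    intro h
    have h1 := (Depth.smul_top_eq_top_congr e).1 h
    have hnt : Nontrivial (EGA4.FibMod R S N) := by
      rw [Submodule.Quotient.nontrivial_iff]
      intro h2
      exact Depth.smul_top_ne_top_of_isLocalRing (R := S) (M := N)
        (((IsLocalRing.local_hom_TFAE (algebraMap R S)).out 0 2 rfl rfl).1 inferInstance) h2
    exact Depth.maximalIdeal_smul_top_ne_top h1
  obtain ⟨rs, hl, hm, hreg⟩ := (Depth.le_idealDepth_iff_exists hne).1 hn
  obtain ⟨hregN, -⟩ := FlatLocalDepth.regular_and_flat_quot R hjac rs N hreg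
  exact hl ▸ Depth.le_idealDepth_of_isWeaklyRegular hregN hm

theorem le_depth_of_fibLoc {n : ℕ∞} (q : Ideal B) [q.IsPrime]
    (h : n ≤ idealDepth (q.map (algebraMap B (EGA4.FibLocRing A B q))) (EGA4.FibLocMod A B q E)) :
    n ≤ depth (Localization.AtPrime q) (LocalizedModule q.primeCompl E) :=
  h.trans (depth_fibLoc_le q)

theorem le_idealDepth_of_fibLoc {n : ℕ∞} {J : Ideal B}
    (h : ∀ q : PrimeSpectrum B, J ≤ q.asIdeal →
      n ≤ idealDepth (q.asIdeal.map (algebraMap B (EGA4.FibLocRing A B q.asIdeal))) (EGA4.FibLocMod A B q.asIdeal E)) :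
    n ≤ idealDepth J E := by
  rw [Depth.idealDepth_eq_iInf, le_iInf₂_iff]
  exact fun q hq => le_depth_of_fibLoc q.asIdeal (h q hq)

theorem idealDepth_fibLocMod_self (q : Ideal B) [q.IsPrime] :
    idealDepth (q.map (algebraMap B (EGA4.FibLocRing A B q))) (EGA4.FibLocMod A B q B) =
      idealDepth (q.map (algebraMap B (EGA4.FibLocRing A B q))) (EGA4.FibLocRing A B q) := by
  let S := Localization.AtPrime q
  haveI : IsNoetherianRing S := isNoetherianRing_atPrime q
  have hq : q.map (algebraMap B (EGA4.FibLocRing A B q)) =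
      (maximalIdeal S).map (algebraMap S (EGA4.FibLocRing A B q)) := by
    rw [← Localization.AtPrime.map_eq_maximalIdeal, Ideal.map_map, ← IsScalarTower.algebraMap_eq]
  let I : Ideal S := (q.comap (algebraMap A B)).map (algebraMap A S)
  have e : EGA4.FibLocMod A B q B ≃ₗ[S] EGA4.FibLocRing A B q :=
    Submodule.Quotient.equiv _ I (Depth.localizedSelfEquiv q.primeCompl)
      (by rw [Submodule.map_smul'', Submodule.map_top, LinearEquiv.range, Ideal.smul_eq_mul, Ideal.mul_top])
  rw [hq, Depth.idealDepth_map_eq, Depth.idealDepth_map_eq]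
  exact Depth.idealDepth_congr e

theorem le_idealDepth_self_of_fibLoc [Module.Flat A B] {n : ℕ∞} {J : Ideal B}
    (h : ∀ q : PrimeSpectrum B, J ≤ q.asIdeal →
      n ≤ idealDepth (q.asIdeal.map (algebraMap B (EGA4.FibLocRing A B q.asIdeal))) (EGA4.FibLocRing A B q.asIdeal)) :
    n ≤ idealDepth J B :=
  le_idealDepth_of_fibLoc (A := A) (E := B) fun q hq => by rw [idealDepth_fibLocMod_self]; exact h q hq

end Groth.Agent.QGorLib
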