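import Groth.Agent.QGorLib.Depth
import Groth.Agent.FlatCrit.Basic
import Groth.Prelude.Def_EGA4b
import Groth.Prelude.Def_FlatCA
import Mathlib.LinearAlgebra.TensorProduct.Quotient
import Mathlib.RingTheory.Localization.BaseChange

/-!
# Depth of the closed fibre and flatness off a closed set
-/

set_option autoImplicit false
set_option linter.style.haveILetI false

universe u

open TensorProduct LocCoh

namespace Groth.Agent.QGorLib

variable {A B : Type u} [CommRing A] [CommRing B] [IsNoetherianRing A] [IsNoetherianRing B] [IsLocalRing A]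
  [Algebra A B] {J : Ideal B}
  {M : Type u} [AddCommGroup M] [Module B M] [Module A M] [IsScalarTower A B M] [Module.Finite B M]

omit [IsNoetherianRing A] [IsNoetherianRing B] [Module.Finite B M] in
theorem exists_fibMod_equiv :
    Nonempty ((M ⊗[A] (A ⧸ IsLocalRing.maximalIdeal A)) ≃ₗ[B] EGA4.FibMod A B M) := by
  let e := TensorProduct.tensorQuotEquivQuotSMul (R := A) M (IsLocalRing.maximalIdeal A)
  let f : M →ₗ[B] M ⊗[A] (A ⧸ IsLocalRing.maximalIdeal A) :=
    { toFun := fun m => m ⊗ₜ 1
      map_add' := fun a b => TensorProduct.add_tmul a b _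
      map_smul' := fun c a => rfl }
  have hsurj : Function.Surjective f := fun z => by
    induction z with
    | zero => exact ⟨0, TensorProduct.zero_tmul _ _⟩
    | add x y hx hy =>
      obtain ⟨a, rfl⟩ := hx
      obtain ⟨b, rfl⟩ := hy
      exact ⟨a + b, map_add f a b⟩
    | tmul m c =>
      obtain ⟨c, rfl⟩ := Ideal.Quotient.mk_surjective c
      refine ⟨c • m, ?_⟩
      show (c • m) ⊗ₜ[A] (1 : A ⧸ IsLocalRing.maximalIdeal A) = _
      rw [TensorProduct.smul_tmul, Algebra.smul_def, mul_one]
      rfl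
  have hker : LinearMap.ker f = EGA4.mB A B • (⊤ : Submodule B M) := by
    ext m
    rw [← Submodule.restrictScalars_mem A (EGA4.mB A B • (⊤ : Submodule B M)),
      Ideal.smul_restrictScalars, Submodule.restrictScalars_top]
    show m ⊗ₜ[A] (1 : A ⧸ IsLocalRing.maximalIdeal A) = 0 ↔ _
    rw [← e.map_eq_zero_iff, ← Submodule.Quotient.mk_eq_zero]
    have : e (m ⊗ₜ[A] (1 : A ⧸ IsLocalRing.maximalIdeal A)) = Submodule.Quotient.mk m := by
      exact (TensorProduct.tensorQuotEquivQuotSMul_tmul_mk _ m (1 : A)).trans (by rw [one_smul])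
    rw [this]
  exact ⟨((Submodule.quotEquivOfEq _ _ hker.symm).trans (f.quotKerEquivOfSurjective hsurj)).symm⟩

variable (hU : ∀ q : PrimeSpectrum B, ¬ J ≤ q.asIdeal → FlatCA.FlatAt A q.asIdeal M)

include hU in
omit [IsLocalRing A] in
theorem support_ker_lTensor_subset {K P : Type u} [AddCommGroup K] [Module A K] [AddCommGroup P] [Module A P]
    (f : K →ₗ[A] P) (hf : Function.Injective f) (p : PrimeSpectrum B)
    (hp : p ∈ Module.support B (LinearMap.ker (AlgebraTensorModule.lTensor B M f))) : J ≤ p.asIdeal := by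
  by_contra hJ
  obtain ⟨z, hz⟩ := Module.mem_support_iff'.1 hp
  let S := p.asIdeal.primeCompl
  let g : M →ₗ[B] LocalizedModule S M := LocalizedModule.mkLinearMap S M
  haveI : Module.Flat A (LocalizedModule S M) := hU p hJ
  have hinj := Module.Flat.lTensor_preserves_injective_linearMap (M := LocalizedModule S M) f hf
  have hcomm : ∀ x : M ⊗[A] K, f.lTensor (LocalizedModule S M) (AlgebraTensorModule.rTensor A K g x) =
      AlgebraTensorModule.rTensor A P g (AlgebraTensorModule.lTensor B M f x) := fun x => by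
    induction x with
    | zero => simp
    | add a b ha hb => rw [map_add, map_add, map_add, map_add, ha, hb]
    | tmul m k => rfl
  have h0 : AlgebraTensorModule.rTensor A K g (z : M ⊗[A] K) = 0 :=
    hinj (by rw [hcomm, LinearMap.mem_ker.1 z.2, map_zero, map_zero])
  obtain ⟨s, hs⟩ := (IsLocalizedModule.eq_zero_iff S (AlgebraTensorModule.rTensor A K g)).1 h0
  exact hz s s.2 (Subtype.ext hs)

include hU in
theorem le_idealDepth_tensor {d : ℕ} (hd1 : 1 ≤ d) (hd : (d : ℕ∞) ≤ idealDepth J (EGA4.FibMod A B M)) :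
    ∀ (n : ℕ) (K : Type u) [AddCommGroup K] [Module A K] [Module.Finite A K],
      (IsLocalRing.maximalIdeal A) ^ n • (⊤ : Submodule A K) = ⊥ → (d : ℕ∞) ≤ idealDepth J (M ⊗[A] K) := by
  intro n K _ _ _ hK
  suffices h : ∀ N : Submodule A K, (d : ℕ∞) ≤ idealDepth J (M ⊗[A] (K ⧸ N)) by
    have e := AlgebraTensorModule.congr (LinearEquiv.refl B M) (Submodule.quotEquivOfEqBot (⊥ : Submodule A K) rfl)
    rw [← Depth.idealDepth_congr e]
    exact h ⊥
  intro N
  induction N using WellFoundedGT.induction with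
  | _ N ih =>
  haveI : Module.Finite B (M ⊗[A] (K ⧸ N)) := FlatCrit.finite_tensor (R := A) (S := B) _
  by_cases hN : N = ⊤
  · subst hN
    haveI : Subsingleton (M ⊗[A] (K ⧸ (⊤ : Submodule A K))) := ⟨fun a b => by
      suffices ∀ z : M ⊗[A] (K ⧸ (⊤ : Submodule A K)), z = 0 from (this a).trans (this b).symm
      intro z
      induction z with
      | zero => rfl
      | add a b ha hb => rw [ha, hb, add_zero]
      | tmul m k => rw [Subsingleton.elim k 0, TensorProduct.tmul_zero]⟩
    rw [Depth.idealDepth_of_subsingleton]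
    exact le_top
  -- a socle element of `K ⧸ N`
  classical
  have hex : ∃ j : ℕ, (IsLocalRing.maximalIdeal A) ^ j • (⊤ : Submodule A K) ≤ N := ⟨n, by rw [hK]; exact bot_le⟩
  obtain ⟨x, hxN, hmx⟩ : ∃ x : K, x ∉ N ∧ ∀ a ∈ IsLocalRing.maximalIdeal A, a • x ∈ N := by
    have hpos : Nat.find hex ≠ 0 := fun h0 => hN (top_le_iff.1 (le_trans
      (by rw [pow_zero, Ideal.one_eq_top, Submodule.top_smul]) (h0 ▸ Nat.find_spec hex)))
    obtain ⟨j, hj⟩ := Nat.exists_eq_succ_of_ne_zero hpos
    obtain ⟨x, hx, hxN⟩ := SetLike.not_le_iff_exists.1 (Nat.find_min hex (show j < Nat.find hex by omega))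
    refine ⟨x, hxN, fun a ha => Nat.find_spec hex ?_⟩
    rw [hj, pow_succ', mul_smul]
    exact Submodule.smul_mem_smul ha hx
  let N' : Submodule A K := N ⊔ Submodule.span A {x}
  have hNN' : N < N' := lt_of_le_of_ne le_sup_left fun e => hxN (by
    rw [e]; exact Submodule.mem_sup_right (Submodule.mem_span_singleton_self x))
  let i0 : (A ⧸ IsLocalRing.maximalIdeal A) →ₗ[A] K ⧸ N :=
    Submodule.liftQ _ (LinearMap.toSpanSingleton A (K ⧸ N) (Submodule.Quotient.mk x)) fun a ha =>
      LinearMap.mem_ker.2 ((Submodule.Quotient.mk_smul N a x).symm.trans ((Submodule.Quotient.mk_eq_zero _).2 (hmx a ha)))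
  let p0 : (K ⧸ N) →ₗ[A] K ⧸ N' := Submodule.mapQ N N' LinearMap.id le_sup_left
  have hi0 : Function.Injective i0 := by
    refine (injective_iff_map_eq_zero i0).2 fun c hc => ?_
    obtain ⟨a, rfl⟩ := Submodule.Quotient.mk_surjective _ c
    rw [Submodule.Quotient.mk_eq_zero]
    by_contra ha
    have hu : IsUnit a := by simpa [IsLocalRing.mem_maximalIdeal] using ha
    refine hxN ?_
    have : a • x ∈ N := (Submodule.Quotient.mk_eq_zero _).1 ((Submodule.Quotient.mk_smul N a x).trans hc)
    obtain ⟨u, rfl⟩ := hu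
    simpa [smul_smul] using N.smul_mem (↑u⁻¹ : A) this
  have hp0 : Function.Surjective p0 := fun c => by
    obtain ⟨k, rfl⟩ := Submodule.Quotient.mk_surjective _ c
    exact ⟨Submodule.Quotient.mk k, rfl⟩
  have hex0 : Function.Exact i0 p0 := fun c => by
    obtain ⟨k, rfl⟩ := Submodule.Quotient.mk_surjective _ c
    constructor
    · intro hk
      have hk' : k ∈ N' := (Submodule.Quotient.mk_eq_zero _).1 hk
      obtain ⟨y, hy, z, hz, rfl⟩ := Submodule.mem_sup.1 hk'
      obtain ⟨a, rfl⟩ := Submodule.mem_span_singleton.1 hz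
      refine ⟨Submodule.Quotient.mk a, ?_⟩
      show a • (Submodule.Quotient.mk x : K ⧸ N) = _
      rw [Submodule.Quotient.mk_add, (Submodule.Quotient.mk_eq_zero _).2 hy, zero_add]
      rfl
    · rintro ⟨c', hc'⟩
      obtain ⟨a, rfl⟩ := Submodule.Quotient.mk_surjective _ c'
      rw [← hc']
      refine (Submodule.Quotient.mk_eq_zero _).2 ?_
      exact Submodule.smul_mem _ a (Submodule.mem_sup_right (Submodule.mem_span_singleton_self x))
  haveI : Module.Finite B (M ⊗[A] (K ⧸ N')) := FlatCrit.finite_tensor (R := A) (S := B) _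
  haveI : Module.Finite B (M ⊗[A] (A ⧸ IsLocalRing.maximalIdeal A)) := FlatCrit.finite_tensor (R := A) (S := B) _
  obtain ⟨eF⟩ := exists_fibMod_equiv (A := A) (B := B) (M := M)
  have h1 : (d : ℕ∞) ≤ idealDepth J (M ⊗[A] (A ⧸ IsLocalRing.maximalIdeal A)) := by
    rw [Depth.idealDepth_congr eF]; exact hd
  refine Depth.le_idealDepth_mid (f := AlgebraTensorModule.lTensor B M i0) (g := AlgebraTensorModule.lTensor B M p0)
    ?_ (LinearMap.lTensor_surjective M hp0) (_root_.lTensor_exact M hex0 hp0) h1 (ih N' hNN')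
  haveI : Subsingleton (LinearMap.ker (AlgebraTensorModule.lTensor B M i0)) := by
    haveI : Module.Finite B (LinearMap.ker (AlgebraTensorModule.lTensor B M i0)) :=
      Module.Finite.iff_fg.2 (IsNoetherian.noetherian _)
    exact subsingleton_of_support_subset (I := J)
      (one_le_idealDepth_of_injective (LinearMap.ker _).subtype (LinearMap.ker _).injective_subtype
        (le_trans (by exact_mod_cast hd1) h1))
      (support_ker_lTensor_subset hU i0 hi0)
  rw [← LinearMap.ker_eq_bot, Submodule.eq_bot_iff]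
  exact fun y hy => congrArg Subtype.val (Subsingleton.elim (⟨y, hy⟩ : LinearMap.ker (AlgebraTensorModule.lTensor B M i0)) 0)

include hU in
theorem flat_of_one_le_idealDepth_fibMod [IsLocalRing B] [IsLocalHom (algebraMap A B)]
    (h1 : 1 ≤ idealDepth J (EGA4.FibMod A B M)) : Module.Flat A M := by
  have hI : (IsLocalRing.maximalIdeal A).map (algebraMap A B) ≤ Ideal.jacobson ⊥ :=
    (((IsLocalRing.local_hom_TFAE (algebraMap A B)).out 0 2 rfl rfl).1 inferInstance).trans
      (IsLocalRing.maximalIdeal_le_jacobson _)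
  refine FlatCrit.flat_of_lTensor_injective_mod_pow (S := B) hI fun n N' => ?_
  haveI : Module.Finite A N' := Module.Finite.iff_fg.2 (IsNoetherian.noetherian _)
  haveI : Module.Finite B (M ⊗[A] N') := FlatCrit.finite_tensor (R := A) (S := B) _
  have hkill : (IsLocalRing.maximalIdeal A) ^ n • (⊤ : Submodule A N') = ⊥ := by
    apply Submodule.map_injective_of_injective N'.injective_subtype
    rw [Submodule.map_smul'', Submodule.map_top, Submodule.range_subtype, Submodule.map_bot, eq_bot_iff,
      Submodule.smul_le]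
    intro r hr x _
    obtain ⟨x, rfl⟩ := Ideal.Quotient.mk_surjective x
    rw [Submodule.mem_bot, Algebra.smul_def, Ideal.Quotient.algebraMap_eq, ← map_mul, Ideal.Quotient.eq_zero_iff_mem]
    exact Ideal.mul_mem_right _ _ hr
  let g := AlgebraTensorModule.lTensor B M N'.subtype
  haveI : Subsingleton (LinearMap.ker g) := by
    haveI : Module.Finite B (LinearMap.ker g) := Module.Finite.iff_fg.2 (IsNoetherian.noetherian _)
    exact subsingleton_of_support_subset (I := J)
      (one_le_idealDepth_of_injective (LinearMap.ker _).subtype (LinearMap.ker _).injective_subtype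
        (le_trans (le_of_eq Nat.cast_one.symm) (le_idealDepth_tensor hU le_rfl
          (le_of_eq_of_le Nat.cast_one h1) n N' hkill)))
      (support_ker_lTensor_subset hU N'.subtype N'.injective_subtype)
  show Function.Injective g
  rw [← LinearMap.ker_eq_bot, Submodule.eq_bot_iff]
  exact fun y hy => congrArg Subtype.val (Subsingleton.elim (⟨y, hy⟩ : LinearMap.ker g) 0)

include hU in
theorem two_le_idealDepth_quot_pow (h2 : 2 ≤ idealDepth J (EGA4.FibMod A B M)) (n : ℕ) :
    2 ≤ idealDepth J (M ⧸ ((EGA4.mB A B) ^ n • (⊤ : Submodule B M))) := by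
  let I := IsLocalRing.maximalIdeal A
  haveI : Module.Finite B (M ⊗[A] (A ⧸ I ^ n)) := FlatCrit.finite_tensor (R := A) (S := B) _
  have hkill : I ^ n • (⊤ : Submodule A (A ⧸ I ^ n)) = ⊥ := by
    rw [eq_bot_iff, Submodule.smul_le]
    intro r hr x _
    obtain ⟨x, rfl⟩ := Ideal.Quotient.mk_surjective x
    rw [Submodule.mem_bot, Algebra.smul_def, Ideal.Quotient.algebraMap_eq, ← map_mul, Ideal.Quotient.eq_zero_iff_mem]
    exact Ideal.mul_mem_right _ _ hr
  have h := le_idealDepth_tensor hU (d := 2) (by norm_num) h2 n (A ⧸ I ^ n) hkill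
  let f : M →ₗ[B] M ⊗[A] (A ⧸ I ^ n) :=
    { toFun := fun m => m ⊗ₜ 1
      map_add' := fun a b => TensorProduct.add_tmul a b _
      map_smul' := fun c a => rfl }
  let e := TensorProduct.tensorQuotEquivQuotSMul (R := A) M (I ^ n)
  have he : ∀ m, e (f m) = Submodule.Quotient.mk m := fun m => by
    exact (TensorProduct.tensorQuotEquivQuotSMul_tmul_mk (I ^ n) m (1 : A)).trans (by rw [one_smul])
  have hsurj : Function.Surjective f := fun z => by
    obtain ⟨m, hm⟩ := Submodule.Quotient.mk_surjective _ (e z)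
    exact ⟨m, e.injective ((he m).trans hm)⟩
  have hker : LinearMap.ker f = (EGA4.mB A B) ^ n • (⊤ : Submodule B M) := by
    ext m
    rw [← Submodule.restrictScalars_mem A ((EGA4.mB A B) ^ n • (⊤ : Submodule B M)), EGA4.mB, ← Ideal.map_pow,
      Ideal.smul_restrictScalars, Submodule.restrictScalars_top, LinearMap.mem_ker, ← e.map_eq_zero_iff, he, Submodule.Quotient.mk_eq_zero]
  rw [Depth.idealDepth_congr ((Submodule.quotEquivOfEq _ _ hker.symm).trans (f.quotKerEquivOfSurjective hsurj))]
  exact h

end Groth.Agent.QGorLib
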