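import Groth.Agent.QGorLib.Depth
import Mathlib.RingTheory.LocalRing.Module
import Mathlib.RingTheory.Localization.Free

/-!
# Reflexive modules as kernels with locally free cokernel
-/

set_option autoImplicit false
set_option linter.style.haveILetI false

universe u

namespace Groth.Agent.QGorLib

variable {B : Type u} [CommRing B] [IsNoetherianRing B]

theorem free_coker_of_regular_inverse (q : Ideal B) [q.IsPrime] {n m : ℕ} (h : (Fin n → B) →ₗ[B] (Fin m → B))
    (σ : (Fin m → B) →ₗ[B] (Fin n → B)) (s : B) (hs : s ∉ q) (e : h ∘ₗ σ ∘ₗ h = s • h) :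
    Module.Free (Localization.AtPrime q) (LocalizedModule q.primeCompl ((Fin m → B) ⧸ LinearMap.range h)) := by
  let C := (Fin m → B) ⧸ LinearMap.range h
  let j0 : (Fin m → B) →ₗ[B] (Fin m → B) := s • LinearMap.id - h ∘ₗ σ
  have hj : LinearMap.range h ≤ LinearMap.ker j0 := by
    rintro _ ⟨x, rfl⟩
    have := LinearMap.congr_fun e x
    simp only [LinearMap.comp_apply, LinearMap.smul_apply] at this
    simp [j0, this]
  let j : C →ₗ[B] (Fin m → B) := Submodule.liftQ _ j0 hj
  have hmk : (LinearMap.range h).mkQ ∘ₗ j = s • LinearMap.id := by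
    refine Submodule.linearMap_qext _ (LinearMap.ext fun x => ?_)
    simp [j, j0, (Submodule.Quotient.mk_eq_zero _).2 (LinearMap.mem_range_self h (σ x))]
  let L := Localization.AtPrime q
  let jq := LocalizedModule.map q.primeCompl j
  let pq := LocalizedModule.map q.primeCompl (LinearMap.range h).mkQ
  have hu : IsUnit (algebraMap B L s) := IsLocalization.map_units L (⟨s, hs⟩ : q.primeCompl)
  have hcomp : ((↑hu.unit⁻¹ : L) • pq) ∘ₗ jq = LinearMap.id := by
    have h1 : pq ∘ₗ jq = algebraMap B L s • LinearMap.id := by
      refine LinearMap.ext fun z => ?_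
      induction z using LocalizedModule.induction_on with
      | h c t =>
        have := LinearMap.congr_fun hmk c
        simp only [LinearMap.comp_apply, LinearMap.smul_apply, LinearMap.id_apply] at this
        simp [pq, jq, LocalizedModule.map_mk, this, LocalizedModule.smul'_mk]
    rw [LinearMap.smul_comp, h1, smul_smul, hu.val_inv_mul, one_smul]
  haveI : Module.Free L (LocalizedModule q.primeCompl (Fin m → B)) :=
    Module.free_of_isLocalizedModule q.primeCompl (LocalizedModule.mkLinearMap q.primeCompl (Fin m → B))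
  haveI : Module.Projective L (LocalizedModule q.primeCompl C) := Module.Projective.of_split jq _ hcomp
  haveI : Module.Finite L (LocalizedModule q.primeCompl C) :=
    Module.Finite.of_isLocalizedModule q.primeCompl (LocalizedModule.mkLinearMap q.primeCompl C)
  exact Module.free_of_flat_of_isLocalRing

theorem exists_fourTerm_free_presentation (J : Ideal B) (F : Type u) [AddCommGroup F] [Module B F]
    [Module.Finite B F] [Module.IsReflexive B F]
    (hU : ∀ q : PrimeSpectrum B, ¬ J ≤ q.asIdeal →
      Module.Free (Localization.AtPrime q.asIdeal) (LocalizedModule q.asIdeal.primeCompl F)) :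
    ∃ (n m : ℕ) (g : F →ₗ[B] (Fin n → B)) (h : (Fin n → B) →ₗ[B] (Fin m → B)),
      Function.Injective g ∧ Function.Exact g h ∧
      ∀ q : PrimeSpectrum B, ¬ J ≤ q.asIdeal →
        Module.Free (Localization.AtPrime q.asIdeal)
          (LocalizedModule q.asIdeal.primeCompl ((Fin m → B) ⧸ LinearMap.range h)) := by
  classical
  let D := Module.Dual B F
  haveI : Module.Finite B D := inferInstance
  obtain ⟨n, π, hπ⟩ := Module.Finite.exists_fin' B D
  haveI : Module.Finite B (LinearMap.ker π) := Module.Finite.iff_fg.2 (IsNoetherian.noetherian _)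
  obtain ⟨m, ρ0, hρ0⟩ := Module.Finite.exists_fin' B (LinearMap.ker π)
  let ρ : (Fin m → B) →ₗ[B] (Fin n → B) := (LinearMap.ker π).subtype ∘ₗ ρ0
  let bn := Pi.basisFun B (Fin n)
  let bm := Pi.basisFun B (Fin m)
  let en : Module.Dual B (Fin n → B) ≃ₗ[B] (Fin n → B) := bn.dualBasis.equivFun
  let em : Module.Dual B (Fin m → B) ≃ₗ[B] (Fin m → B) := bm.dualBasis.equivFun
  let h : (Fin n → B) →ₗ[B] (Fin m → B) := em.toLinearMap ∘ₗ ρ.dualMap ∘ₗ en.symm.toLinearMap
  let g : F →ₗ[B] (Fin n → B) := en.toLinearMap ∘ₗ π.dualMap ∘ₗ Module.Dual.eval B F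
  refine ⟨n, m, g, h, ?_, ?_, fun q hq => ?_⟩
  · refine en.injective.comp ((LinearMap.dualMap_injective_of_surjective hπ).comp
      (Module.bijective_dual_eval B F).1)
  · intro y
    obtain ⟨ψ, rfl⟩ := en.surjective y
    simp only [h, LinearMap.comp_apply, LinearEquiv.coe_coe, LinearEquiv.symm_apply_apply,
      LinearEquiv.map_eq_zero_iff]
    constructor
    · intro hψ
      have hk : LinearMap.ker π ≤ LinearMap.ker ψ := fun x hx => by
        obtain ⟨w, hw⟩ := hρ0 ⟨x, hx⟩
        have := LinearMap.congr_fun hψ w
        rw [LinearMap.dualMap_apply] at this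
        simpa [ρ, hw] using this
      let Φ : Module.Dual B D := (Submodule.liftQ _ ψ hk) ∘ₗ (π.quotKerEquivOfSurjective hπ).symm.toLinearMap
      obtain ⟨x, hx⟩ := (Module.bijective_dual_eval B F).2 Φ
      refine ⟨x, congrArg en (LinearMap.ext fun a => ?_)⟩
      rw [LinearMap.comp_apply, LinearMap.dualMap_apply, hx]
      have h2 : (π.quotKerEquivOfSurjective hπ).symm (π a) = Submodule.Quotient.mk a := by
        rw [LinearEquiv.symm_apply_eq]; rfl
      simp [Φ, h2]
    · rintro ⟨x, hx⟩
      rw [← en.injective hx]
      ext a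
      simp [ρ, LinearMap.mem_ker.1 (ρ0 _).2]
  · haveI := hU q hq
    let S := q.asIdeal.primeCompl
    let L := Localization.AtPrime q.asIdeal
    haveI : Module.Finite L (LocalizedModule S F) :=
      Module.Finite.of_isLocalizedModule S (LocalizedModule.mkLinearMap S F)
    haveI := Module.finitePresentation_of_finite B F
    haveI : Module.FinitePresentation B D := Module.finitePresentation_of_finite B D
    obtain ⟨e⟩ := CAlgReflexive.exists_localized_hom_equiv (M := F) (N := B) S
    haveI : Module.Free L (LocalizedModule S B) :=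
      Module.Free.of_equiv (Depth.localizedSelfEquiv S).symm
    haveI : Module.Finite L (LocalizedModule S B) :=
      Module.Finite.of_isLocalizedModule S (LocalizedModule.mkLinearMap S B)
    haveI : Module.Free L (LocalizedModule S D) :=
      Module.Free.of_equiv (M := LocalizedModule S F →ₗ[L] LocalizedModule S B) e.symm
    obtain ⟨σ0, hσ0⟩ := Module.projective_lifting_property (LocalizedModule.map S π) LinearMap.id
      (LocalizedModule.map_surjective S π hπ)
    obtain ⟨τ0, t, hτ0⟩ := Module.FinitePresentation.exists_lift_of_isLocalizedModule S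
      (LocalizedModule.mkLinearMap S (Fin n → B)) (σ0.restrictScalars B ∘ₗ LocalizedModule.mkLinearMap S D)
    have heq : LocalizedModule.mkLinearMap S D ∘ₗ (π ∘ₗ τ0) = LocalizedModule.mkLinearMap S D ∘ₗ ((t : B) • LinearMap.id) := by
      refine LinearMap.ext fun d => ?_
      have h1 := congrArg (LocalizedModule.map S π) (LinearMap.congr_fun hτ0 d)
      simp only [LinearMap.comp_apply, LinearMap.smul_apply, LinearMap.coe_restrictScalars,
        LocalizedModule.mkLinearMap_apply, LocalizedModule.map_mk, LinearMap.map_smul_of_tower] at h1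
      have h2 := LinearMap.congr_fun hσ0 (LocalizedModule.mk d 1)
      simp only [LinearMap.comp_apply, LinearMap.id_apply] at h2
      rw [Submonoid.smul_def, h2] at h1
      simp only [LinearMap.comp_apply, LinearMap.smul_apply, LinearMap.id_apply, map_smul,
        LocalizedModule.mkLinearMap_apply]
      rw [h1]
    obtain ⟨t', ht'⟩ : ∃ t' : S, ∀ d : D, (t' : B) • π (τ0 d) = (t' : B) • (t : B) • d := by
      have hall : ∀ d : D, ∃ c : S, (c : B) • π (τ0 d) = (c : B) • (t : B) • d := fun d =>
        IsLocalizedModule.exists_of_eq (S := S) (f := LocalizedModule.mkLinearMap S D) (LinearMap.congr_fun heq d)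
      obtain ⟨k, v, hv⟩ := Module.Finite.exists_fin (R := B) (M := D)
      choose c hc using fun i => hall (v i)
      refine ⟨∏ i, c i, fun d => ?_⟩
      have hd : d ∈ Submodule.span B (Set.range v) := by rw [hv]; trivial
      induction hd using Submodule.span_induction with
      | mem x hx =>
        obtain ⟨i, rfl⟩ := hx
        rw [← Finset.prod_erase_mul _ _ (Finset.mem_univ i), Submonoid.coe_mul, mul_smul, mul_smul, hc i]
      | zero => simp
      | add a b _ _ ha hb => rw [map_add, map_add, smul_add, smul_add, smul_add, ha, hb]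
      | smul r a _ ha => rw [map_smul, map_smul, smul_comm, ha]; simp only [smul_comm _ r]
    let s : B := (t' : B) * t
    let τ : D →ₗ[B] (Fin n → B) := (t' : B) • τ0
    have hτ : ∀ d, π (τ d) = s • d := fun d => by
      simpa [τ, s, mul_smul] using ht' d
    let r : (Fin n → B) →ₗ[B] LinearMap.ker π :=
      (s • LinearMap.id - τ ∘ₗ π).codRestrict _ fun x => by simp [hτ]
    obtain ⟨σ, hσ⟩ := Module.projective_lifting_property ρ0 r hρ0
    have hρ : ρ ∘ₗ σ ∘ₗ ρ = s • ρ := by
      refine LinearMap.ext fun x => ?_
      have := congrArg Subtype.val (LinearMap.congr_fun hσ (ρ x))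
      have h0 : π (ρ x) = 0 := LinearMap.mem_ker.1 (ρ0 x).2
      simpa [r, ρ, h0] using this
    refine free_coker_of_regular_inverse q.asIdeal h (en.toLinearMap ∘ₗ σ.dualMap ∘ₗ em.symm.toLinearMap) s
      (q.asIdeal.primeCompl.mul_mem t'.2 t.2) ?_
    refine LinearMap.ext fun y => ?_
    obtain ⟨ψ, rfl⟩ := en.surjective y
    simp only [h, LinearMap.comp_apply, LinearMap.smul_apply, LinearEquiv.coe_coe, LinearEquiv.symm_apply_apply]
    rw [← map_smul]
    congr 1
    ext a
    have := congrArg ψ (LinearMap.congr_fun hρ (Pi.single a 1))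
    simpa using this

end Groth.Agent.QGorLib
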