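import Groth.Agent.QGorLib.FourTermFlat
import Groth.Agent.QGorLib.FibLoc

/-!
# The four-term flatness criterion at a prime, inductively along generizations
-/

set_option autoImplicit false
set_option linter.style.haveILetI false
set_option linter.unusedSectionVars false

universe u

open TensorProduct LocCoh IsLocalRing

namespace Groth.Agent.QGorLib

theorem isLocalizedModule_loc_loc {B G : Type u} [CommRing B] [AddCommGroup G] [Module B G] (q : Ideal B)
    [q.IsPrime] (Q : Ideal (Localization.AtPrime q)) [Q.IsPrime] :
    IsLocalizedModule (Q.comap (algebraMap B (Localization.AtPrime q))).primeCompl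
      (((LocalizedModule.mkLinearMap Q.primeCompl (LocalizedModule q.primeCompl G)).restrictScalars B).comp
        (LocalizedModule.mkLinearMap q.primeCompl G)) := by
  let S := Localization.AtPrime q
  let N := LocalizedModule q.primeCompl G
  let T := (Q.comap (algebraMap B S)).primeCompl
  let g := LocalizedModule.mkLinearMap q.primeCompl G
  let h := LocalizedModule.mkLinearMap Q.primeCompl N
  have hqT : ∀ v : q.primeCompl, (v : B) ∈ T := fun v (hv : algebraMap B S v ∈ Q) =>
    ‹Q.IsPrime›.ne_top (Q.eq_top_of_isUnit_mem hv (IsLocalization.map_units S v))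
  refine ⟨fun t => ?_, fun z => ?_, fun {m1 m2} he => ?_⟩
  · rw [Module.End.isUnit_iff]
    have := (Module.End.isUnit_iff _).1 (IsLocalizedModule.map_units h (⟨algebraMap B S t, t.2⟩ : Q.primeCompl))
    convert this using 1
    funext z
    exact (IsScalarTower.algebraMap_smul S (t : B) z).symm
  · obtain ⟨⟨n, w⟩, hn⟩ := IsLocalizedModule.surj Q.primeCompl h z
    obtain ⟨⟨m, v⟩, hm⟩ := IsLocalizedModule.surj q.primeCompl g n
    obtain ⟨⟨b, v'⟩, hb⟩ := IsLocalization.surj q.primeCompl (w : S)
    have hbT : b ∈ T := fun hbQ => by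
      refine w.2 ((‹Q.IsPrime›.mem_or_mem (?_ : (w : S) * algebraMap B S v' ∈ Q)).resolve_right (hqT v'))
      rw [hb]; exact hbQ
    refine ⟨((v' : B) • m, ⟨(v : B) * b, mul_mem (hqT v) hbT⟩), ?_⟩
    simp only [Submonoid.smul_def, LinearMap.comp_apply, LinearMap.restrictScalars_apply] at hn hm ⊢
    change ((v : B) * b) • z = h (g ((v' : B) • m))
    rw [map_smul g, ← hm, LinearMap.map_smul_of_tower h, LinearMap.map_smul_of_tower h, ← hn, mul_smul,
      ← IsScalarTower.algebraMap_smul S b z, ← hb, mul_comm, mul_smul, IsScalarTower.algebraMap_smul,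
      smul_comm (v : B)]
  · simp only [LinearMap.comp_apply, LinearMap.restrictScalars_apply] at he
    obtain ⟨w, hw⟩ := IsLocalizedModule.exists_of_eq (S := Q.primeCompl) he
    obtain ⟨⟨b, v'⟩, hb⟩ := IsLocalization.surj q.primeCompl (w : S)
    have hbT : b ∈ T := fun hbQ => by
      refine w.2 ((‹Q.IsPrime›.mem_or_mem (?_ : (w : S) * algebraMap B S v' ∈ Q)).resolve_right (hqT v'))
      rw [hb]; exact hbQ
    have h2 : g (b • m1) = g (b • m2) := by
      have := congrArg (fun x => algebraMap B S (v' : B) • x) hw
      simp only [Submonoid.smul_def, smul_smul, mul_comm (algebraMap B S (v' : B))] at this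
      rw [hb, IsScalarTower.algebraMap_smul, IsScalarTower.algebraMap_smul] at this
      rw [map_smul, map_smul]; exact this
    obtain ⟨v, hv⟩ := IsLocalizedModule.exists_of_eq (S := q.primeCompl) h2
    refine ⟨⟨(v : B) * b, mul_mem (hqT v) hbT⟩, ?_⟩
    simp only [Submonoid.smul_def, mul_smul] at hv ⊢
    exact hv

variable {A B : Type u} [CommRing A] [CommRing B] [IsNoetherianRing A] [IsNoetherianRing B] [Algebra A B]
  {F E0 E1 G : Type u} [AddCommGroup F] [Module B F] [Module A F] [IsScalarTower A B F] [Module.Finite B F]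
  [AddCommGroup E0] [Module B E0] [Module A E0] [IsScalarTower A B E0] [Module.Finite B E0] [Module.Flat A E0]
  [AddCommGroup E1] [Module B E1] [Module A E1] [IsScalarTower A B E1] [Module.Finite B E1] [Module.Flat A E1]
  [AddCommGroup G] [Module B G] [Module A G] [IsScalarTower A B G] [Module.Finite B G]
  {f : F →ₗ[B] E0} {u : E0 →ₗ[B] E1} {v : E1 →ₗ[B] G}

theorem fourTerm_at (hf : Function.Injective f) (hfu : Function.Exact f u) (huv : Function.Exact u v)
    (hv : Function.Surjective v) (q : Ideal B) [q.IsPrime]
    (hGU : ∀ q' : PrimeSpectrum B, q'.asIdeal < q → FlatCA.FlatAt A q'.asIdeal G)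
    (h0 : 2 ≤ idealDepth (q.map (algebraMap B (EGA4.FibLocRing A B q))) (EGA4.FibLocMod A B q E0))
    (h1 : 1 ≤ idealDepth (q.map (algebraMap B (EGA4.FibLocRing A B q))) (EGA4.FibLocMod A B q E1)) :
    (FlatCA.FlatAt A q G ↔
      2 ≤ idealDepth (q.map (algebraMap B (EGA4.FibLocRing A B q))) (EGA4.FibLocMod A B q F)) ∧
    (FlatCA.FlatAt A q G → FlatCA.FlatAt A q F) := by
  let p := q.comap (algebraMap A B)
  let R := Localization.AtPrime p
  let S := Localization.AtPrime q
  haveI : IsNoetherianRing R := isNoetherianRing_atPrime p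
  haveI : IsNoetherianRing S := isNoetherianRing_atPrime q
  letI : Algebra R S := (Localization.localRingHom p q (algebraMap A B) rfl).toAlgebra
  haveI : IsScalarTower A R S := IsScalarTower.of_algebraMap_eq fun a => by
    rw [IsScalarTower.algebraMap_apply A B S, RingHom.algebraMap_toAlgebra]
    exact (Localization.localRingHom_to_map p q _ rfl a).symm
  haveI : IsLocalHom (algebraMap R S) :=
    inferInstanceAs (IsLocalHom (Localization.localRingHom p q (algebraMap A B) rfl))
  let Fq := LocalizedModule q.primeCompl F
  let E0q := LocalizedModule q.primeCompl E0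
  let E1q := LocalizedModule q.primeCompl E1
  let Gq := LocalizedModule q.primeCompl G
  letI : Module R Fq := Module.compHom Fq (algebraMap R S)
  letI : Module R E0q := Module.compHom E0q (algebraMap R S)
  letI : Module R E1q := Module.compHom E1q (algebraMap R S)
  letI : Module R Gq := Module.compHom Gq (algebraMap R S)
  have tower1 : ∀ (N : Type u) [AddCommGroup N] [Module S N],
      @IsScalarTower R S N _ _ (Module.compHom N (algebraMap R S)).toSMul := fun N _ _ =>
    letI := Module.compHom N (algebraMap R S)
    ⟨fun r s n => by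
      show (r • s) • n = algebraMap R S r • s • n
      rw [Algebra.smul_def, mul_smul]⟩
  have tower2 : ∀ (N : Type u) [AddCommGroup N] [Module S N] [Module A N] [IsScalarTower A S N],
      @IsScalarTower A R N _ (Module.compHom N (algebraMap R S)).toSMul _ := fun N _ _ _ _ =>
    letI := Module.compHom N (algebraMap R S)
    ⟨fun a r n => by
      show algebraMap R S (a • r) • n = a • (algebraMap R S r • n)
      rw [Algebra.smul_def, map_mul, ← IsScalarTower.algebraMap_apply, mul_smul]
      exact IsScalarTower.algebraMap_smul S a _⟩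
  haveI := tower1 Fq; haveI := tower1 E0q; haveI := tower1 E1q; haveI := tower1 Gq
  haveI := tower2 Fq; haveI := tower2 E0q; haveI := tower2 E1q; haveI := tower2 Gq
  haveI : Module.Flat R E0q :=
    (Module.flat_iff_of_isLocalization R p.primeCompl E0q).2 (flat_of_linearMap_localized q)
  haveI : Module.Flat R E1q :=
    (Module.flat_iff_of_isLocalization R p.primeCompl E1q).2 (flat_of_linearMap_localized q)
  have hmB : EGA4.mB R S = p.map (algebraMap A S) := by
    rw [EGA4.mB, ← Localization.AtPrime.map_eq_maximalIdeal, Ideal.map_map, ← IsScalarTower.algebraMap_eq]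
  have hq : q.map (algebraMap B (EGA4.FibLocRing A B q)) =
      (maximalIdeal S).map (algebraMap S (EGA4.FibLocRing A B q)) := by
    rw [← Localization.AtPrime.map_eq_maximalIdeal, Ideal.map_map, ← IsScalarTower.algebraMap_eq]
  have hdepth : ∀ (M : Type u) [AddCommGroup M] [Module B M] [Module.Finite B M],
      idealDepth (q.map (algebraMap B (EGA4.FibLocRing A B q))) (EGA4.FibLocMod A B q M) =
        idealDepth (maximalIdeal S) (EGA4.FibMod R S (LocalizedModule q.primeCompl M)) := fun M _ _ _ => by
    rw [hq, Depth.idealDepth_map_eq]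
    exact (Depth.idealDepth_congr (Submodule.quotEquivOfEq _ _ (by rw [hmB]))).symm
  rw [hdepth] at h0 h1 ⊢
  have hU : ∀ Q : PrimeSpectrum S, ¬ maximalIdeal S ≤ Q.asIdeal → FlatCA.FlatAt R Q.asIdeal Gq := fun Q hQ => by
    let q' : PrimeSpectrum B := ⟨Q.asIdeal.comap (algebraMap B S), inferInstance⟩
    have hlt : q'.asIdeal < q := by
      refine lt_of_le_of_ne ?_ fun e => hQ ?_
      · calc q'.asIdeal ≤ (maximalIdeal S).comap (algebraMap B S) :=
            Ideal.comap_mono (le_maximalIdeal Q.2.ne_top)
          _ = q := Localization.AtPrime.under_maximalIdeal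
      · rw [← Localization.AtPrime.map_eq_maximalIdeal]
        exact (Ideal.map_mono e.ge).trans Ideal.map_comap_le
    haveI : Module.Flat A (LocalizedModule q'.asIdeal.primeCompl G) := hGU q' hlt
    haveI := isLocalizedModule_loc_loc (G := G) q Q.asIdeal
    haveI : Module.Flat A (LocalizedModule Q.asIdeal.primeCompl Gq) := Module.Flat.of_linearEquiv
      ((IsLocalizedModule.iso q'.asIdeal.primeCompl
        (((LocalizedModule.mkLinearMap Q.asIdeal.primeCompl Gq).restrictScalars B).comp
          (LocalizedModule.mkLinearMap q.primeCompl G))).restrictScalars A).symm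
    exact (Module.flat_iff_of_isLocalization R p.primeCompl _).2 inferInstance
  have key := fourTerm_iff (J := maximalIdeal S) (f := LocalizedModule.map q.primeCompl f)
    (u := LocalizedModule.map q.primeCompl u) (v := LocalizedModule.map q.primeCompl v)
    (LocalizedModule.map_injective _ f hf) (LocalizedModule.map_exact _ f u hfu)
    (LocalizedModule.map_exact _ u v huv) (LocalizedModule.map_surjective _ v hv) hU h0 h1
  have hflat : Module.Flat R Gq ↔ FlatCA.FlatAt A q G := Module.flat_iff_of_isLocalization R p.primeCompl Gq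
  exact ⟨hflat.symm.trans key.1.symm, fun h =>
    (Module.flat_iff_of_isLocalization R p.primeCompl Fq).1 (key.2.2 (hflat.2 h))⟩

end Groth.Agent.QGorLib
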