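import Groth.Agent.QGorLib.Depth
import Groth.Agent.LocCohBasic.Depth
import Groth.Agent.LocCohBasic.Vanish
import Groth.Prelude.Def_Wider

/-!
# Local cohomology in degrees at most two along exact sequences of modules
-/

set_option autoImplicit false
set_option linter.style.haveILetI false
set_option linter.unusedSectionVars false

universe u

open CategoryTheory LocCoh Groth.Agent.LocCohBasic

namespace Groth.Agent.QGorLib

variable {R : Type u} [CommRing R] [IsNoetherianRing R] {J : Ideal R}
variable {M1 M2 M3 : Type u} [AddCommGroup M1] [Module R M1] [AddCommGroup M2] [Module R M2]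
  [AddCommGroup M3] [Module R M3] {f : M1 →ₗ[R] M2} {g : M2 →ₗ[R] M3}

theorem exists_shortExact (hf : Function.Injective f) (hg : Function.Surjective g) (hfg : Function.Exact f g) :
    ∃ h : g.comp f = 0, (ModuleCat.shortComplexOfCompEqZero f g h).ShortExact :=
  ⟨hfg.linearMap_comp_eq_zero, ModuleCat.shortComplex_shortExact _ hfg hf hg⟩

theorem subsingleton_H_mid {i : ℕ} (hf : Function.Injective f) (hg : Function.Surjective g)
    (hfg : Function.Exact f g) (h1 : Subsingleton (LocCoh.H J i M1)) (h3 : Subsingleton (LocCoh.H J i M3)) :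
    Subsingleton (LocCoh.H J i M2) := by
  let S := ModuleCat.shortComplexOfCompEqZero f g hfg.linearMap_comp_eq_zero
  have hS : S.ShortExact := ModuleCat.shortComplex_shortExact _ hfg hf hg
  haveI : Subsingleton ((localCohomology J i).obj S.X₁) := h1
  haveI : Subsingleton ((localCohomology J i).obj S.X₃) := h3
  refine subsingleton_of_forall_eq 0 fun y => ?_
  obtain ⟨x, rfl⟩ := exists_of_map_g_eq_zero J hS y (Subsingleton.elim _ _)
  exact (congrArg _ (Subsingleton.elim x 0)).trans (map_zero _)

theorem subsingleton_H_right {i : ℕ} (hf : Function.Injective f) (hg : Function.Surjective g)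
    (hfg : Function.Exact f g) (h2 : Subsingleton (LocCoh.H J i M2)) (h1 : Subsingleton (LocCoh.H J (i + 1) M1)) :
    Subsingleton (LocCoh.H J i M3) := by
  let S := ModuleCat.shortComplexOfCompEqZero f g hfg.linearMap_comp_eq_zero
  have hS : S.ShortExact := ModuleCat.shortComplex_shortExact _ hfg hf hg
  haveI : Subsingleton ((localCohomology J i).obj S.X₂) := h2
  haveI : Subsingleton ((localCohomology J (i + 1)).obj S.X₁) := h1
  refine subsingleton_of_forall_eq 0 fun z => ?_
  obtain ⟨y, rfl⟩ := exists_of_delta_eq_zero J hS z (Subsingleton.elim _ _)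
  exact (congrArg _ (Subsingleton.elim y 0)).trans (map_zero _)

theorem subsingleton_H_of_surjective {i : ℕ} (hg : Function.Surjective g)
    (hker : IsPowerTorsion J (LinearMap.ker g)) (h : Subsingleton (LocCoh.H J (i + 1) M2)) :
    Subsingleton (LocCoh.H J (i + 1) M3) :=
  subsingleton_H_right (LinearMap.ker g).injective_subtype hg (LinearMap.exact_subtype_ker_map g) h
    (subsingleton_of_isPowerTorsion J (i + 1) (ModuleCat.of R (LinearMap.ker g)) hker)

/-- As `subsingleton_H_mid`, allowing a torsion kernel on the left. -/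
theorem subsingleton_H_mid_of_torsion_ker {i : ℕ} (hker : IsPowerTorsion J (LinearMap.ker f))
    (hg : Function.Surjective g) (hfg : Function.Exact f g)
    (h1 : Subsingleton (LocCoh.H J (i + 1) M1)) (h3 : Subsingleton (LocCoh.H J (i + 1) M3)) :
    Subsingleton (LocCoh.H J (i + 1) M2) := by
  refine subsingleton_H_mid (f := (LinearMap.range f).subtype) (Submodule.injective_subtype _) hg
    (fun y => by rw [hfg y]; simp) ?_ h3
  refine subsingleton_H_of_surjective f.surjective_rangeRestrict ?_ h1
  rw [f.ker_rangeRestrict]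
  exact hker

theorem isPowerTorsion_of_support_subset [Module.Finite R M1]
    (h : ∀ p ∈ Module.support R M1, J ≤ p.asIdeal) : IsPowerTorsion J M1 := by
  have hle : J ≤ (Module.annihilator R M1).radical := by
    rw [Ideal.radical_eq_sInf]
    refine le_sInf fun p ⟨hp, hpp⟩ => h ⟨p, hpp⟩ ?_
    rw [Module.support_eq_zeroLocus]
    exact hp
  obtain ⟨n, hn⟩ := Ideal.exists_pow_le_of_le_radical_of_fg hle (IsNoetherian.noetherian J)
  exact fun m => ⟨n, fun a ha => Module.mem_annihilator.1 (hn ha) m⟩

theorem eq_zero_of_mem_torsionSub [Module.Finite R M1] (hd : 1 ≤ idealDepth J M1) {x : M1}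
    (hx : x ∈ DRing.torsionSub J M1) : x = 0 := by
  haveI : Module.Finite R (DRing.torsionSub J M1) := Module.Finite.iff_fg.2 (IsNoetherian.noetherian _)
  haveI : Subsingleton (DRing.torsionSub J M1) := subsingleton_of_support_subset (I := J)
    (one_le_idealDepth_of_injective (DRing.torsionSub J M1).subtype (Submodule.injective_subtype _) hd)
    fun p hp => by
      obtain ⟨z, hz⟩ := Module.mem_support_iff'.1 hp
      obtain ⟨n, hn⟩ := (isPowerTorsion_torsionSub J M1) z
      refine p.isPrime.le_of_pow_le (n := n) fun a ha => ?_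
      by_contra hap
      exact hz a hap (hn a ha)
  exact congrArg Subtype.val (Subsingleton.elim (⟨x, hx⟩ : DRing.torsionSub J M1) 0)

theorem one_le_idealDepth_of_torsion [Module.Finite R M1] (h : ∀ x ∈ DRing.torsionSub J M1, x = 0) :
    1 ≤ idealDepth J M1 := by
  haveI : Module.Finite R (ModuleCat.of R M1) := inferInstanceAs (Module.Finite R M1)
  refine le_of_eq_of_le Nat.cast_one.symm
    ((le_idealDepth_iff_subsingleton J (ModuleCat.of R M1)).2 fun i hi => ?_)
  obtain rfl : i = 0 := by omega
  haveI : Subsingleton ((DRing.gammaI J).obj (ModuleCat.of R M1)) :=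
    subsingleton_of_forall_eq 0 fun z => Subtype.ext (h _ (z : DRing.torsionSub J M1).2)
  exact ((zeroIso J).app (ModuleCat.of R M1)).toLinearEquiv.toEquiv.subsingleton

theorem exists_torsion_lift (hg : Function.Surjective g) (h1 : Subsingleton (LocCoh.H J 1 (LinearMap.ker g)))
    {x : M3} (hx : x ∈ DRing.torsionSub J M3) : ∃ y ∈ DRing.torsionSub J M2, g y = x := by
  let S := ModuleCat.shortComplexOfCompEqZero (LinearMap.ker g).subtype g (LinearMap.exact_subtype_ker_map g).linearMap_comp_eq_zero
  have hS : S.ShortExact :=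
    ModuleCat.shortComplex_shortExact _ (LinearMap.exact_subtype_ker_map g) (Submodule.injective_subtype _) hg
  haveI : Subsingleton ((localCohomology J (0 + 1)).obj S.X₁) := h1
  obtain ⟨y, hy⟩ := exists_of_delta_eq_zero J hS ((zeroIso J).inv.app S.X₃ ⟨x, hx⟩) (Subsingleton.elim _ _)
  let y' : DRing.torsionSub J M2 := (zeroIso J).hom.app S.X₂ y
  refine ⟨y', y'.2, ?_⟩
  have hid : ∀ z, (zeroIso J).hom.app S.X₃ ((zeroIso J).inv.app S.X₃ z) = z := fun z => by
    rw [← ModuleCat.comp_apply, Iso.inv_hom_id_app]; rfl
  have h2 := (congrArg ((zeroIso J).hom.app S.X₃) hy).trans (hid ⟨x, hx⟩)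
  rw [← ModuleCat.comp_apply, (zeroIso J).hom.naturality, ModuleCat.comp_apply] at h2
  exact congrArg Subtype.val h2

end Groth.Agent.QGorLib
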