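import Groth.Agent.QGorLib.FourTermFlat
import Groth.Agent.QGorLib.H12
import Mathlib.RingTheory.Filtration

/-!
# Flatness in a four-term sequence from second local cohomology of the closed fibre
-/

set_option autoImplicit false
set_option linter.style.haveILetI false
set_option linter.unusedSectionVars false

universe u

open TensorProduct LocCoh

namespace Groth.Agent.QGorLib

section

variable {A B : Type u} [CommRing A] [CommRing B] [IsNoetherianRing A] [IsNoetherianRing B] [IsLocalRing A]
  [Algebra A B] {J : Ideal B}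
  {M : Type u} [AddCommGroup M] [Module B M] [Module A M] [IsScalarTower A B M] [Module.Finite B M]

theorem isPowerTorsion_ker_lTensor (hU : ∀ q : PrimeSpectrum B, ¬ J ≤ q.asIdeal → FlatCA.FlatAt A q.asIdeal M)
    {K P : Type u} [AddCommGroup K] [Module A K] [Module.Finite A K] [AddCommGroup P] [Module A P]
    (f : K →ₗ[A] P) (hf : Function.Injective f) :
    IsPowerTorsion J (LinearMap.ker (AlgebraTensorModule.lTensor B M f)) := by
  haveI : Module.Finite B (M ⊗[A] K) := FlatCrit.finite_tensor (R := A) (S := B) _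
  haveI : Module.Finite B (LinearMap.ker (AlgebraTensorModule.lTensor B M f)) :=
    Module.Finite.iff_fg.2 (IsNoetherian.noetherian _)
  exact isPowerTorsion_of_support_subset (support_ker_lTensor_subset hU f hf)

theorem isPowerTorsion_ker_rTensor {P C : Type u} [AddCommGroup P] [Module B P] [Module A P] [IsScalarTower A B P]
    [Module.Finite B P] [AddCommGroup C] [Module B C] [Module A C] [IsScalarTower A B C]
    (g : M →ₗ[B] P) (π : P →ₗ[B] C) (hg : Function.Injective g) (hgπ : Function.Exact g π)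
    (hπ : Function.Surjective π) (hC : ∀ q : PrimeSpectrum B, ¬ J ≤ q.asIdeal → FlatCA.FlatAt A q.asIdeal C)
    (K : Type u) [AddCommGroup K] [Module A K] [Module.Finite A K] :
    IsPowerTorsion J (LinearMap.ker (AlgebraTensorModule.rTensor A K g)) := by
  haveI := FlatCrit.finite_tensor (R := A) (S := B) (M := M) K
  let rg := AlgebraTensorModule.rTensor A K g
  haveI : Module.Finite B (LinearMap.ker rg) := Module.Finite.iff_fg.2 (IsNoetherian.noetherian _)
  refine isPowerTorsion_of_support_subset fun p hp => ?_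
  by_contra hJ
  obtain ⟨z, hz⟩ := Module.mem_support_iff'.1 hp
  let S := p.asIdeal.primeCompl
  let gN := LocalizedModule.mkLinearMap S M
  let gP := LocalizedModule.mkLinearMap S P
  haveI : Module.Flat A (LocalizedModule S C) := hC p hJ
  have hinj := LinearMap.lTensor_injective_of_exact_of_flat
    ((LocalizedModule.map S π).restrictScalars A) (LocalizedModule.map_surjective _ _ hπ)
    ((LocalizedModule.map S g).restrictScalars A) (LocalizedModule.map_injective _ _ hg)
    (LocalizedModule.map_exact _ _ _ hgπ) K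
  rw [LinearMap.lTensor_inj_iff_rTensor_inj] at hinj
  have hcomm : ∀ x : M ⊗[A] K, ((LocalizedModule.map S g).restrictScalars A).rTensor K
      (AlgebraTensorModule.rTensor A K gN x) = AlgebraTensorModule.rTensor A K gP (rg x) := fun x => by
    induction x with
    | zero => simp
    | add a b ha hb => rw [map_add, map_add, map_add, map_add, ha, hb]
    | tmul n c => simp [rg, gN, gP, LocalizedModule.map_mk]
  have hz0 : AlgebraTensorModule.rTensor A K gN (z : M ⊗[A] K) = 0 :=
    hinj (by rw [hcomm, LinearMap.mem_ker.1 z.2, map_zero, map_zero])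
  obtain ⟨s, hs⟩ := (IsLocalizedModule.eq_zero_iff S (AlgebraTensorModule.rTensor A K gN)).1 hz0
  exact hz s s.2 (Subtype.ext hs)

theorem subsingleton_H_one_tensor (hU : ∀ q : PrimeSpectrum B, ¬ J ≤ q.asIdeal → FlatCA.FlatAt A q.asIdeal M)
    (h1 : Subsingleton (LocCoh.H J 1 (M ⊗[A] (A ⧸ IsLocalRing.maximalIdeal A)))) (n : ℕ)
    (K : Type u) [AddCommGroup K] [Module A K] [Module.Finite A K]
    (hK : IsLocalRing.maximalIdeal A ^ n • (⊤ : Submodule A K) = ⊥) :
    Subsingleton (LocCoh.H J 1 (M ⊗[A] K)) := by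
  suffices h : ∀ N : Submodule A K, Subsingleton (LocCoh.H J 1 (M ⊗[A] (K ⧸ N))) by
    have e := AlgebraTensorModule.congr (LinearEquiv.refl B M) (Submodule.quotEquivOfEqBot (⊥ : Submodule A K) rfl)
    exact subsingleton_H_of_surjective (g := e.toLinearMap) e.surjective
      (fun z => ⟨0, fun a _ => by
        obtain ⟨z, hz⟩ := z
        obtain rfl : z = 0 := e.injective (hz.trans (map_zero _).symm)
        exact Subtype.ext (smul_zero a)⟩) (h ⊥)
  intro N
  induction N using WellFoundedGT.induction with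
  | _ N ih =>
  by_cases hN : N = ⊤
  · subst hN
    haveI : Subsingleton (M ⊗[A] (K ⧸ (⊤ : Submodule A K))) := ⟨fun a b => by
      suffices ∀ z : M ⊗[A] (K ⧸ (⊤ : Submodule A K)), z = 0 from (this a).trans (this b).symm
      intro z
      induction z with
      | zero => rfl
      | add a b ha hb => rw [ha, hb, add_zero]
      | tmul m k => rw [Subsingleton.elim k 0, TensorProduct.tmul_zero]⟩
    exact LocCohBasic.subsingleton_of_isPowerTorsion J 0 (ModuleCat.of B (M ⊗[A] (K ⧸ (⊤ : Submodule A K))))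
      fun m => ⟨0, fun a _ => Subsingleton.elim _ _⟩
  classical
  have hex : ∃ j : ℕ, (IsLocalRing.maximalIdeal A) ^ j • (⊤ : Submodule A K) ≤ N := ⟨n, by rw [hK]; exact bot_le⟩
  obtain ⟨x, hxN, hmx⟩ : ∃ x : K, x ∉ N ∧ ∀ a ∈ IsLocalRing.maximalIdeal A, a • x ∈ N := by
    have hpos : Nat.find hex ≠ 0 := fun h0 => hN (top_le_iff.1 (le_trans
      (by rw [pow_zero, Ideal.one_eq_top, Submodule.top_smul]) (h0 ▸ Nat.find_spec hex)))
    obtain ⟨j, hj⟩ := Nat.exists_eq_succ_of_ne_zero hpos
    obtain ⟨x, hx, hxN⟩ := SetLike.not_le_iff_exists.1 (Nat.find_min hex (show j < Nat.find hex by omega))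
    refine ⟨x, hxN, fun a ha => Nat.find_spec hex ?_⟩
    rw [hj, pow_succ', mul_smul]
    exact Submodule.smul_mem_smul ha hx
  let N' : Submodule A K := N ⊔ Submodule.span A {x}
  have hxN' : x ∈ N' := Submodule.mem_sup_right (Submodule.mem_span_singleton_self x)
  have hNN' : N < N' := lt_of_le_of_ne le_sup_left fun e => hxN (by rw [e]; exact hxN')
  let i0 : (A ⧸ IsLocalRing.maximalIdeal A) →ₗ[A] K ⧸ N :=
    Submodule.liftQ _ (LinearMap.toSpanSingleton A (K ⧸ N) (Submodule.Quotient.mk x)) fun a ha =>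
      LinearMap.mem_ker.2 ((Submodule.Quotient.mk_smul N a x).symm.trans ((Submodule.Quotient.mk_eq_zero _).2 (hmx a ha)))
  let p0 : (K ⧸ N) →ₗ[A] K ⧸ N' := Submodule.mapQ N N' LinearMap.id le_sup_left
  have hi0 : Function.Injective i0 := by
    refine (injective_iff_map_eq_zero i0).2 fun c hc => ?_
    obtain ⟨a, rfl⟩ := Submodule.Quotient.mk_surjective _ c
    rw [Submodule.Quotient.mk_eq_zero]
    by_contra ha
    have hu : IsUnit a := by simpa [IsLocalRing.mem_maximalIdeal] using ha
    exact hxN ((N.smul_mem_iff_of_isUnit hu).1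
      ((Submodule.Quotient.mk_eq_zero _).1 ((Submodule.Quotient.mk_smul N a x).trans hc)))
  have hp0 : Function.Surjective p0 := fun c => by
    obtain ⟨k, rfl⟩ := Submodule.Quotient.mk_surjective _ c
    exact ⟨Submodule.Quotient.mk k, rfl⟩
  have hex0 : Function.Exact i0 p0 := fun c => by
    obtain ⟨k, rfl⟩ := Submodule.Quotient.mk_surjective _ c
    refine ⟨fun hk => ?_, ?_⟩
    · obtain ⟨y, hy, z, hz, rfl⟩ := Submodule.mem_sup.1 ((Submodule.Quotient.mk_eq_zero N').1 hk)
      obtain ⟨a, rfl⟩ := Submodule.mem_span_singleton.1 hz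
      refine ⟨Submodule.Quotient.mk a, ?_⟩
      show a • (Submodule.Quotient.mk x : K ⧸ N) = _
      rw [Submodule.Quotient.mk_add, (Submodule.Quotient.mk_eq_zero _).2 hy, zero_add]
      rfl
    · rintro ⟨c', hc'⟩
      obtain ⟨a, rfl⟩ := Submodule.Quotient.mk_surjective _ c'
      rw [← hc']
      exact (Submodule.Quotient.mk_eq_zero _).2 (N'.smul_mem a hxN')
  exact subsingleton_H_mid_of_torsion_ker (f := AlgebraTensorModule.lTensor B M i0)
    (g := AlgebraTensorModule.lTensor B M p0) (isPowerTorsion_ker_lTensor hU i0 hi0)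
    (LinearMap.lTensor_surjective M hp0) (_root_.lTensor_exact M hex0 hp0) h1 (ih N' hNN')

/-- A torsion element of the closed fibre comes from torsion elements modulo every power of `m`. -/
theorem exists_torsion_lift_quot_pow (hU : ∀ q : PrimeSpectrum B, ¬ J ≤ q.asIdeal → FlatCA.FlatAt A q.asIdeal M)
    (h1 : Subsingleton (LocCoh.H J 1 (M ⊗[A] (A ⧸ IsLocalRing.maximalIdeal A)))) (n : ℕ)
    {z : M ⊗[A] (A ⧸ IsLocalRing.maximalIdeal A)} (hz : z ∈ DRing.torsionSub J (M ⊗[A] (A ⧸ IsLocalRing.maximalIdeal A))) :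
    ∃ w : M, (w ⊗ₜ[A] (1 : A ⧸ IsLocalRing.maximalIdeal A ^ (n + 1))) ∈ DRing.torsionSub J (M ⊗[A] (A ⧸ IsLocalRing.maximalIdeal A ^ (n + 1))) ∧
      w ⊗ₜ[A] (1 : A ⧸ IsLocalRing.maximalIdeal A) = z := by
  let m := IsLocalRing.maximalIdeal A
  let p0 : (A ⧸ m ^ (n + 1)) →ₗ[A] A ⧸ m := Submodule.mapQ _ _ LinearMap.id (Ideal.pow_le_self (by omega))
  have hp0 : Function.Surjective p0 := fun c => by
    obtain ⟨k, rfl⟩ := Submodule.Quotient.mk_surjective _ c
    exact ⟨Submodule.Quotient.mk k, rfl⟩
  let N := LinearMap.ker p0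
  haveI : Module.Finite A N := Module.Finite.iff_fg.2 (IsNoetherian.noetherian _)
  have hkill : m ^ (n + 1) • (⊤ : Submodule A N) = ⊥ := by
    rw [eq_bot_iff, Submodule.smul_le]
    intro r hr x _
    obtain ⟨x, hx'⟩ := x
    obtain ⟨x, rfl⟩ := Submodule.Quotient.mk_surjective _ x
    refine (Submodule.mem_bot A).2 (Subtype.ext ?_)
    exact (Submodule.Quotient.mk_smul _ r x).symm.trans ((Submodule.Quotient.mk_eq_zero _).2 (Ideal.mul_mem_right x _ hr))
  let g := AlgebraTensorModule.lTensor B M p0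
  let i := AlgebraTensorModule.lTensor B M N.subtype
  have hgi : Function.Exact i g := _root_.lTensor_exact M (LinearMap.exact_subtype_ker_map p0) hp0
  have hker : Subsingleton (LocCoh.H J 1 (LinearMap.ker g)) := by
    rw [LinearMap.exact_iff.1 hgi]
    refine subsingleton_H_of_surjective i.surjective_rangeRestrict ?_ (subsingleton_H_one_tensor hU h1 _ N hkill)
    rw [i.ker_rangeRestrict]
    exact isPowerTorsion_ker_lTensor hU N.subtype N.injective_subtype
  obtain ⟨y, hy, hyz⟩ := exists_torsion_lift (g := g) (J := J) (LinearMap.lTensor_surjective M hp0) hker hz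
  obtain ⟨w, rfl⟩ : ∃ w : M, w ⊗ₜ[A] (1 : A ⧸ m ^ (n + 1)) = y := by
    clear hy hyz
    induction y with
    | zero => exact ⟨0, TensorProduct.zero_tmul _ _⟩
    | add a b ha hb =>
      obtain ⟨a, rfl⟩ := ha
      obtain ⟨b, rfl⟩ := hb
      exact ⟨a + b, TensorProduct.add_tmul a b _⟩
    | tmul x c =>
      obtain ⟨c, rfl⟩ := Ideal.Quotient.mk_surjective c
      refine ⟨c • x, ?_⟩
      rw [TensorProduct.smul_tmul, Algebra.smul_def, mul_one]
      rfl
  exact ⟨w, hy, hyz⟩

theorem tmul_one_eq_zero_iff (K : Ideal A) (w : M) :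
    w ⊗ₜ[A] (1 : A ⧸ K) = 0 ↔ w ∈ (K.map (algebraMap A B)) • (⊤ : Submodule B M) := by
  rw [← Submodule.restrictScalars_mem A ((K.map (algebraMap A B)) • (⊤ : Submodule B M)),
    Ideal.smul_restrictScalars, Submodule.restrictScalars_top,
    ← (TensorProduct.tensorQuotEquivQuotSMul (R := A) M K).map_eq_zero_iff, ← Submodule.Quotient.mk_eq_zero]
  have : TensorProduct.tensorQuotEquivQuotSMul (R := A) M K (w ⊗ₜ[A] (1 : A ⧸ K)) = Submodule.Quotient.mk w :=
    (TensorProduct.tensorQuotEquivQuotSMul_tmul_mk K w (1 : A)).trans (by rw [one_smul])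
  rw [this]

end

variable {A B : Type u} [CommRing A] [CommRing B] [IsNoetherianRing A] [IsNoetherianRing B] [IsLocalRing A]
  [IsLocalRing B] [Algebra A B] [IsLocalHom (algebraMap A B)] {J : Ideal B}
  {F E0 E1 G : Type u} [AddCommGroup F] [Module B F] [Module A F] [IsScalarTower A B F] [Module.Finite B F]
  [AddCommGroup E0] [Module B E0] [Module A E0] [IsScalarTower A B E0] [Module.Finite B E0] [Module.Flat A E0]
  [AddCommGroup E1] [Module B E1] [Module A E1] [IsScalarTower A B E1] [Module.Finite B E1] [Module.Flat A E1]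
  [AddCommGroup G] [Module B G] [Module A G] [IsScalarTower A B G] [Module.Finite B G]
  {f : F →ₗ[B] E0} {u : E0 →ₗ[B] E1} {v : E1 →ₗ[B] G}

theorem fourTerm_of_H_two (hf : Function.Injective f) (hfu : Function.Exact f u) (huv : Function.Exact u v)
    (hv : Function.Surjective v)
    (hGU : ∀ q : PrimeSpectrum B, ¬ J ≤ q.asIdeal → FlatCA.FlatAt A q.asIdeal G)
    (h0 : 2 ≤ idealDepth J (EGA4.FibMod A B E0)) (h1 : 1 ≤ idealDepth J (EGA4.FibMod A B E1))
    (hH2 : Subsingleton (LocCoh.H J 2 (EGA4.FibMod A B F))) :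
    Module.Flat A F ∧ Module.Flat A G ∧ 2 ≤ idealDepth J (EGA4.FibMod A B F) := by
  let m := IsLocalRing.maximalIdeal A
  let k := A ⧸ m
  let I := LinearMap.range u
  haveI : Module.Finite B I := Module.Finite.iff_fg.2 (IsNoetherian.noetherian _)
  let u0 : E0 →ₗ[B] I := u.rangeRestrict
  have hu0 : Function.Surjective u0 := u.surjective_rangeRestrict
  have hfu0 : Function.Exact f u0 := fun y => by rw [← hfu y, ← Subtype.coe_inj]; rfl
  have hIv : Function.Exact I.subtype v := fun y => by
    rw [huv y, Submodule.coe_subtype, Subtype.range_coe_subtype]; rfl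
  haveI := FlatCrit.finite_tensor (R := A) (S := B) (M := F) k
  haveI := FlatCrit.finite_tensor (R := A) (S := B) (M := E0) k
  haveI := FlatCrit.finite_tensor (R := A) (S := B) (M := I) k
  obtain ⟨eF⟩ := exists_fibMod_equiv (A := A) (B := B) (M := F)
  obtain ⟨eE0⟩ := exists_fibMod_equiv (A := A) (B := B) (M := E0)
  obtain ⟨eI⟩ := exists_fibMod_equiv (A := A) (B := B) (M := I)
  have h0' : 2 ≤ idealDepth J (E0 ⊗[A] k) := by rw [Depth.idealDepth_congr eE0]; exact h0
  have hIU : ∀ q : PrimeSpectrum B, ¬ J ≤ q.asIdeal → FlatCA.FlatAt A q.asIdeal I := fun q hq => by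
    haveI : Module.Flat A (LocalizedModule q.asIdeal.primeCompl G) := hGU q hq
    haveI := flat_of_linearMap_localized (A := A) (M := E1) q.asIdeal
    exact Rodicio.flat_of_exact
      (i := (LocalizedModule.map q.asIdeal.primeCompl I.subtype).restrictScalars A)
      (π := (LocalizedModule.map q.asIdeal.primeCompl v).restrictScalars A)
      (LocalizedModule.map_injective _ _ I.injective_subtype) (LocalizedModule.map_exact _ _ _ hIv)
      (LocalizedModule.map_surjective _ _ hv)
  let rf : F ⊗[A] k →ₗ[B] E0 ⊗[A] k := AlgebraTensorModule.rTensor A k f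
  let ru : E0 ⊗[A] k →ₗ[B] I ⊗[A] k := AlgebraTensorModule.rTensor A k u0
  have hru : Function.Surjective ru := LinearMap.rTensor_surjective k (g := u0.restrictScalars A) hu0
  have hrex : Function.Exact rf ru :=
    _root_.rTensor_exact k (f := f.restrictScalars A) (g := u0.restrictScalars A) hfu0 hu0
  have hH2' : Subsingleton (LocCoh.H J 2 (F ⊗[A] k)) :=
    subsingleton_H_of_surjective (g := eF.symm.toLinearMap) eF.symm.surjective
      (fun z => ⟨0, fun a _ => by
        obtain ⟨z, hz⟩ := z
        obtain rfl : z = 0 := eF.symm.injective (hz.trans (map_zero _).symm)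
        exact Subtype.ext (smul_zero a)⟩) hH2
  have hI1 : Subsingleton (LocCoh.H J 1 (I ⊗[A] k)) := by
    haveI : Module.Finite B (ModuleCat.of B (E0 ⊗[A] k)) := inferInstanceAs (Module.Finite B (E0 ⊗[A] k))
    refine subsingleton_H_right (f := (LinearMap.range rf).subtype) (Submodule.injective_subtype _) hru
      (fun y => by rw [hrex y]; simp) ?_ ?_
    · exact LocCohBasic.subsingleton_of_lt_idealDepth J (ModuleCat.of B (E0 ⊗[A] k))
        (lt_of_lt_of_le (by norm_num) h0')
    · refine subsingleton_H_of_surjective rf.surjective_rangeRestrict ?_ hH2'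
      rw [rf.ker_rangeRestrict]
      exact isPowerTorsion_ker_rTensor f u0 hf hfu0 hu0 hIU k
  -- torsion in the closed fibre of `I` is zero
  have hd : 1 ≤ idealDepth J (I ⊗[A] k) := by
    refine one_le_idealDepth_of_torsion fun z hz => ?_
    obtain ⟨c, hc⟩ := Ideal.exists_pow_inf_eq_pow_smul (EGA4.mB A B) I
    obtain ⟨w, hw, rfl⟩ := exists_torsion_lift_quot_pow hIU hI1 c hz
    let K := A ⧸ m ^ (c + 1)
    haveI := FlatCrit.finite_tensor (R := A) (S := B) (M := E1) K
    have hkill : m ^ (c + 1) • (⊤ : Submodule A K) = ⊥ := by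
      rw [eq_bot_iff, Submodule.smul_le]
      intro r hr x _
      obtain ⟨x, rfl⟩ := Ideal.Quotient.mk_surjective x
      rw [Submodule.mem_bot, Algebra.smul_def, Ideal.Quotient.algebraMap_eq, ← map_mul, Ideal.Quotient.eq_zero_iff_mem]
      exact Ideal.mul_mem_right _ _ hr
    have hdE : 1 ≤ idealDepth J (E1 ⊗[A] K) := le_of_eq_of_le Nat.cast_one.symm
      (le_idealDepth_tensor (fun q _ => flat_of_linearMap_localized q.asIdeal) (d := 1) le_rfl
        (le_of_eq_of_le Nat.cast_one h1) (c + 1) K hkill)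
    have h0w : (w : E1) ⊗ₜ[A] (1 : K) = 0 := by
      refine eq_zero_of_mem_torsionSub hdE ?_
      obtain ⟨N, hN⟩ := hw
      exact ⟨N, fun a ha => by
        have := congrArg (AlgebraTensorModule.rTensor A K I.subtype) (hN a ha)
        rw [map_smul, map_zero] at this
        exact this⟩
    rw [tmul_one_eq_zero_iff (B := B), Ideal.map_pow] at h0w
    rw [tmul_one_eq_zero_iff (B := B)]
    have hmem : (w : E1) ∈ EGA4.mB A B • I := by
      have h := (hc (c + 1) (Nat.le_succ c)).le ⟨h0w, w.2⟩
      rw [Nat.add_sub_cancel_left, pow_one] at h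
      exact Submodule.smul_mono le_rfl inf_le_right h
    have hmem' : (w : E1) ∈ Submodule.map I.subtype (EGA4.mB A B • ⊤) := by
      rw [Submodule.map_smul'', Submodule.map_subtype_top]; exact hmem
    obtain ⟨y, hy, hye⟩ := hmem'
    obtain rfl : y = w := I.injective_subtype hye
    exact hy
  haveI hIflat : Module.Flat A I := flat_of_one_le_idealDepth_fibMod hIU (by rw [← Depth.idealDepth_congr eI]; exact hd)
  haveI : Module.Flat A F := Rodicio.flat_of_exact (i := f.restrictScalars A) (π := u0.restrictScalars A)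
    hf hfu0 hu0
  have hrf : Function.Injective rf := by
    have := LinearMap.lTensor_injective_of_exact_of_flat (u0.restrictScalars A) hu0
      (f.restrictScalars A) hf hfu0 k
    rw [LinearMap.lTensor_inj_iff_rTensor_inj] at this
    exact this
  have hdF : 2 ≤ idealDepth J (EGA4.FibMod A B F) := by
    rw [← Depth.idealDepth_congr eF]
    refine Depth.le_idealDepth_left (n := 2) hrf hru hrex h0' ?_
    calc ((2 : ℕ) : ℕ∞) = 1 + 1 := by norm_num
      _ ≤ _ := add_le_add hd le_rfl
  exact ⟨inferInstance, (fourTerm_iff hf hfu huv hv hGU h0 h1).1.1 hdF, hdF⟩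

end Groth.Agent.QGorLib
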